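import Cfsg.Agent.KSG55.SLn.Main
import Cfsg.Agent.KSG55.Pres.All
import Cfsg.Agent.KSG55.Lin.Quot

set_option autoImplicit false

/-! All degrees. -/

namespace Cfsg.Agent.KSG55.SLn

open Matrix Equiv Cfsg.Agent.KSG55.Pres Cfsg.Agent.KSG55.Lin

variable {n : ℕ}

theorem to_w0 (hn : 4 ≤ n) {k r : ℕ} {gens : Fin (k + 1) → alternatingGroup (Fin n)} (h : PresOn gens r)
    (i : Fin (k + 1)) (hi : (gens i : Perm (Fin n)).IsThreeCycle) :
    ∃ gens' : Fin (k + 1) → alternatingGroup (Fin n), PresOn gens' r ∧ gens' 0 = w0 hn := by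
  have hw : (w0 hn : Perm (Fin n)).IsThreeCycle :=
    isThreeCycle_cyc3 (by simp [pt3, Fin.ext_iff]) (by simp [pt3, Fin.ext_iff]) (by simp [pt3, Fin.ext_iff])
  obtain ⟨σ, hσ⟩ := isConj_iff.mp (Equiv.Perm.isConj_iff_cycleType_eq.mpr (hi.trans hw.symm))
  let f : alternatingGroup (Fin n) ≃* alternatingGroup (Fin n) := MulAut.conjNormal σ
  refine ⟨fun j => f ((gens ∘ Equiv.swap 0 i) j), (h.reindex (Equiv.swap 0 i)).map f, ?_⟩
  apply Subtype.ext
  show ((MulAut.conjNormal σ) (gens (Equiv.swap 0 i 0)) : Perm (Fin n)) = _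
  rw [Equiv.swap_apply_left, MulAut.conjNormal_apply]
  exact hσ

theorem alt_small (hn : 4 ≤ n) (h9 : n ≤ 9) :
    ∃ gens : Fin (1 + 1) → alternatingGroup (Fin n), PresOn gens ((n - 2) / 2 + 3) ∧ gens 0 = w0 hn := by
  obtain ⟨m, rfl⟩ : ∃ m, n = m + 2 := ⟨n - 2, by omega⟩
  obtain ⟨A, -, hA, -, eA, -⟩ := exists_small_data m (by omega) (by omega)
  refine to_w0 hn ((A.presOn_alt hA).mono (by rw [eA]; omega)) 1 ?_
  show (A.z).IsThreeCycle
  exact isThreeCycle_cyc3 A.hab (A.hne _).2.symm (A.hne _).1.symm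

theorem alt_large (hn : 4 ≤ n) (h10 : 10 ≤ n) :
    ∃ gens : Fin (2 + 1) → alternatingGroup (Fin n), PresOn gens 7 ∧ gens 0 = w0 hn := by
  obtain ⟨-, g, h, h3⟩ := large_cases n h10
  exact to_w0 hn h 1 h3

theorem alphas (hn : 4 ≤ n) : ∃ αs : List (alternatingGroup (Fin n)), αs.length ≤ 1 ∧ (n = 4 → αs.length = 0) ∧
    (∀ α ∈ αs, (α : Perm (Fin n)) (Glue.o0 hn) = Glue.o0 hn ∧ (α : Perm (Fin n)) (Glue.o1 hn) = Glue.o1 hn) ∧
    ∀ τ : alternatingGroup (Fin n), (τ : Perm (Fin n)) (Glue.o0 hn) = Glue.o0 hn →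
      (τ : Perm (Fin n)) (Glue.o1 hn) = Glue.o1 hn →
      τ ∈ Subgroup.closure ({x | x ∈ αs} ∪ {x | ∃ y ∈ αs, x = Glue.beta hn * y * (Glue.beta hn)⁻¹}) := by
  by_cases h4 : n = 4
  · subst h4
    refine ⟨[], by simp, fun _ => rfl, by simp, fun τ a b => ?_⟩
    have key : ∀ σ : Perm (Fin 4), Perm.sign σ = 1 → σ 0 = 0 → σ 1 = 1 → σ = 1 := by decide
    have : τ = 1 := Subtype.ext (key τ (Equiv.Perm.mem_alternatingGroup.mp τ.2) a b)
    rw [this]; exact one_mem _
  obtain ⟨α, hα, hle⟩ := exists_alpha (n := n) (by omega)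
  let α' : alternatingGroup (Fin n) := ⟨α, Equiv.Perm.mem_alternatingGroup.mpr hα.1⟩
  refine ⟨[α'], by simp, fun h => absurd h h4, ?_, fun τ a b => ?_⟩
  · intro y hy
    rw [List.mem_singleton] at hy
    subst hy
    exact ⟨hα.2 _ (by simp [mem_tail2]), hα.2 _ (by simp [mem_tail2])⟩
  · have hτ : (τ : Perm (Fin n)) ∈ altOn (tail2 n) := ⟨Equiv.Perm.mem_alternatingGroup.mp τ.2, fun x hx => by
      rw [mem_tail2] at hx
      rcases (show x.val = 0 ∨ x.val = 1 by omega) with e | e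
      · rw [show x = Glue.o0 hn from Fin.ext e]; exact a
      · rw [show x = Glue.o1 hn from Fin.ext e]; exact b⟩
    set K := Subgroup.closure ({x | x ∈ [α']} ∪ {x | ∃ y ∈ [α'], x = Glue.beta hn * y * (Glue.beta hn)⁻¹}) with hK
    have : (τ : Perm (Fin n)) ∈ K.map (alternatingGroup (Fin n)).subtype := by
      refine (Subgroup.closure_le _).mpr ?_ (hle hτ)
      rintro _ (rfl | rfl)
      · exact ⟨α', Subgroup.subset_closure (Or.inl (by simp)), rfl⟩
      · exact ⟨Glue.beta hn * α' * (Glue.beta hn)⁻¹, Subgroup.subset_closure (Or.inr ⟨α', by simp, rfl⟩), rfl⟩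
    obtain ⟨τ', h', e'⟩ := this
    rwa [show τ' = τ from Subtype.ext e'] at h'

/-- One more, superfluous, generator. -/
theorem add_one {G : Type*} [Group G] {k r : ℕ} {gens : Fin k → G} (h : PresOn gens r) :
    ∃ gens' : Fin (k + 1) → G, PresOn gens' (r + 1) := by
  obtain ⟨L, -, -, htop, -⟩ := h.exists_hom
  refine ⟨Fin.snoc gens 1, ?_⟩
  have := h.change (Fin.snoc gens 1) (by
      rw [eq_top_iff, ← htop]
      refine Subgroup.closure_mono ?_
      rintro _ ⟨i, rfl⟩
      exact ⟨i.castSucc, by simp⟩)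
    (Fin.snoc (fun i => some i) none) (fun j i hj => by
      induction j using Fin.lastCases with
      | last => simp at hj
      | cast j => simp at hj; simp [hj])
    (fun j j' i hj hj' => by
      induction j using Fin.lastCases with
      | last => simp at hj
      | cast j =>
        induction j' using Fin.lastCases with
        | last => simp at hj'
        | cast j' => simp at hj hj'; rw [hj, hj'])
  refine this.mono (Nat.add_le_add_left ?_ r)
  refine le_of_le_of_eq (b := ({Fin.last k} : Finset (Fin (k + 1))).card)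
    (Finset.card_le_card fun j hj => ?_) (Finset.card_singleton _)
  induction j using Fin.lastCases with
  | last => simp
  | cast j => simp at hj

variable {F : Type*} [Field F] [Fintype F]

theorem slots_seven (hn : 4 ≤ n) :
    ∃ gens : Fin 7 → Matrix.SpecialLinearGroup (Fin n) F, PresOn gens 25 := by
  obtain ⟨a, ha⟩ := IsCyclic.exists_generator (α := Fˣ)
  obtain ⟨αs, h1, -, hfix, hgen⟩ := alphas hn
  by_cases h : 10 ≤ n
  · obtain ⟨gA, hA, h0⟩ := alt_large hn h
    obtain ⟨g, hg⟩ := add_one (presOn_glue (F := F) hn ha gA hA h0 αs hfix hgen)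
    exact ⟨g, hg.mono (by omega)⟩
  · obtain ⟨gA, hA, h0⟩ := alt_small hn (by omega)
    obtain ⟨g, hg⟩ := add_one (presOn_glue (F := F) hn ha gA hA h0 αs hfix hgen)
    obtain ⟨g', hg'⟩ := add_one hg
    exact ⟨g', hg'.mono (by omega)⟩

theorem slots_six (h4 : n = 4 ∨ n = 5) :
    ∃ gens : Fin 6 → Matrix.SpecialLinearGroup (Fin n) F, PresOn gens (if n = 4 then 21 else 22) := by
  have hn : 4 ≤ n := by omega
  obtain ⟨a, ha⟩ := IsCyclic.exists_generator (α := Fˣ)
  obtain ⟨αs, h1, h10, hfix, hgen⟩ := alphas hn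
  obtain ⟨gA, hA, h0⟩ := alt_small hn (by omega)
  obtain ⟨g, hg⟩ := add_one (presOn_glue (F := F) hn ha gA hA h0 αs hfix hgen)
  refine ⟨g, hg.mono ?_⟩
  rcases h4 with rfl | rfl
  · have := h10 rfl; simp; omega
  · simp; omega

theorem center_gen {G : Type*} [Group G] [IsCyclic (Subgroup.center G)] :
    ∃ z, Subgroup.center G = Subgroup.normalClosure {z} := by
  obtain ⟨z, hz⟩ := IsCyclic.exists_generator (α := ↥(Subgroup.center G))
  refine ⟨z.1, le_antisymm (fun g hg => ?_) ?_⟩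
  · obtain ⟨k, hk⟩ := Subgroup.mem_zpowers_iff.mp (hz ⟨g, hg⟩)
    have e := congrArg (Subgroup.center G).subtype hk
    rw [map_zpow] at e
    have hmem : z.1 ∈ Subgroup.normalClosure ({z.1} : Set G) := Subgroup.subset_normalClosure (Set.mem_singleton _)
    exact (show z.1 ^ k = g from e) ▸ zpow_mem hmem k
  · exact Subgroup.normalClosure_le_normal (N := Subgroup.center G) (Set.singleton_subset_iff.mpr z.2)

theorem center_normalClosure (n : ℕ) [NeZero n] :
    ∃ z, Subgroup.center (Matrix.SpecialLinearGroup (Fin n) F) = Subgroup.normalClosure {z} := by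
  haveI : NeZero (Fintype.card (Fin n)) := ⟨by simp [NeZero.ne n]⟩
  haveI : IsCyclic (Subgroup.center (Matrix.SpecialLinearGroup (Fin n) F)) :=
    (Matrix.SpecialLinearGroup.center_equiv_rootsOfUnity' (n := Fin n) (R := F) 0).isCyclic.mpr inferInstance
  exact center_gen

end Cfsg.Agent.KSG55.SLn
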