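import Cfsg.Agent.KSG55.Pres.AltOn

set_option autoImplicit false

/-! The even permutations fixing two points, from one element and an involution. -/

namespace Cfsg.Agent.KSG55.SLn

open Equiv Cfsg.Agent.KSG55.Pres

/-- All points but the first two. -/
def tail2 (n : ℕ) : Finset (Fin n) := Finset.univ.filter fun i => 2 ≤ i.val

theorem mem_tail2 {n : ℕ} {i : Fin n} : i ∈ tail2 n ↔ 2 ≤ i.val := by simp [tail2]

theorem exists_alpha {n : ℕ} (hn : 5 ≤ n) :
    ∃ α : Perm (Fin n), α ∈ altOn (tail2 n) ∧
      altOn (tail2 n) ≤ Subgroup.closure ({α, swap ⟨0, by omega⟩ ⟨1, by omega⟩ * swap ⟨2, by omega⟩ ⟨3, by omega⟩ * α *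
        (swap ⟨0, by omega⟩ ⟨1, by omega⟩ * swap ⟨2, by omega⟩ ⟨3, by omega⟩)⁻¹} : Set (Perm (Fin n))) := by
  set s : ℕ := if n % 2 = 1 then 2 else 3 with hs
  have hs2 : 2 ≤ s ∧ s ≤ 3 ∧ (n - s) % 2 = 1 := by rw [hs]; split_ifs <;> omega
  set L := (List.finRange n).drop s with hL
  have hlen : L.length = n - s := by simp [hL]
  have hnd : L.Nodup := (List.nodup_finRange n).sublist (List.drop_sublist _ _)
  have hmem : ∀ x : Fin n, x ∈ L ↔ s ≤ x.val := fun x => by
    rw [hL, List.mem_iff_getElem]
    constructor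
    · rintro ⟨i, hi, rfl⟩; simp
    · intro h
      refine ⟨x.val - s, by simp; omega, ?_⟩
      apply Fin.ext; simp; omega
  set α := L.formPerm with hα
  have hfix : ∀ x : Fin n, x.val < s → α x = x := fun x hx =>
    List.formPerm_apply_of_notMem fun h => by rw [hmem] at h; omega
  have hstep : ∀ x y : Fin n, s ≤ x.val → y.val = x.val + 1 → α x = y := fun x y hx hy => by
    have h := List.formPerm_apply_lt_getElem L hnd (x.val - s) (by rw [hlen]; omega)
    have e1 : L[x.val - s]'(by rw [hlen]; omega) = x := by apply Fin.ext; simp [hL]; omega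
    have e2 : L[x.val - s + 1]'(by rw [hlen]; omega) = y := by apply Fin.ext; simp [hL]; omega
    rw [e1, e2] at h
    exact h
  have hsupp : α.support = L.toFinset := List.support_formPerm_of_nodup L hnd fun x hx => by
    have := congrArg List.length hx; simp [hlen] at this; omega
  have hsign : Perm.sign α = 1 := by
    have hc : α.IsCycle := List.isCycle_formPerm hnd (by rw [hlen]; omega)
    rw [hc.sign, hsupp, List.toFinset_card_of_nodup hnd, hlen]
    have : Odd (n - s) := Nat.odd_iff.mpr hs2.2.2
    rw [this.neg_one_pow, neg_neg]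
  set z : Fin n := ⟨0, by omega⟩
  set o : Fin n := ⟨1, by omega⟩
  set a : Fin n := ⟨2, by omega⟩
  set b : Fin n := ⟨3, by omega⟩
  set c : Fin n := ⟨4, by omega⟩
  set τ := swap a b
  refine ⟨α, ⟨hsign, fun x hx => hfix x (by rw [mem_tail2] at hx; omega)⟩, ?_⟩
  have hconj : swap z o * τ * α * (swap z o * τ)⁻¹ = τ * α * τ := by
    have h1 : α * swap z o * α⁻¹ = swap z o := by
      rw [← swap_apply_apply, hfix z (by simp [z]; omega), hfix o (by simp [o]; omega)]
    have h2 : Commute (swap z o) τ := by
      refine Perm.Disjoint.commute (fun x => ?_)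
      by_cases hx : x = a ∨ x = b
      · left; rcases hx with rfl | rfl <;> apply swap_apply_of_ne_of_ne <;> simp [z, o, a, b, Fin.ext_iff]
      · right; push Not at hx; exact swap_apply_of_ne_of_ne hx.1 hx.2
    calc swap z o * τ * α * (swap z o * τ)⁻¹ = (τ * swap z o) * α * (τ * swap z o)⁻¹ := by rw [h2.eq]
      _ = τ * (swap z o * α * (swap z o)⁻¹) * τ⁻¹ := by group
      _ = τ * (swap z o * (α * swap z o * α⁻¹) * α) * τ⁻¹ := by rw [swap_inv]; group
      _ = _ := by rw [h1, swap_mul_self, one_mul, show τ⁻¹ = τ from swap_inv a b]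
  rw [hconj]
  set H := Subgroup.closure ({α, τ * α * τ} : Set (Perm (Fin n)))
  have hαH : α ∈ H := Subgroup.subset_closure (Or.inl rfl)
  have hα'H : τ * α * τ ∈ H := Subgroup.subset_closure (Or.inr rfl)
  set M := Subgroup.closure ({α, τ} : Set (Perm (Fin n)))
  have hαM : α ∈ M := Subgroup.subset_closure (Or.inl rfl)
  have hτM : τ ∈ M := Subgroup.subset_closure (Or.inr rfl)
  -- `M` normalises `H`
  have ττ : τ * τ = 1 := swap_mul_self a b
  have hnorm : M ≤ Subgroup.normalizer (H : Set (Perm (Fin n))) := by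
    rw [Subgroup.closure_le]
    rintro _ (rfl | rfl)
    · exact Subgroup.le_normalizer hαH
    · have hle : H ≤ H.comap (MulAut.conj τ).toMonoidHom := by
        refine (Subgroup.closure_le _).mpr ?_
        rintro _ (rfl | rfl)
        · show τ * α * τ⁻¹ ∈ H
          rw [show τ⁻¹ = τ from swap_inv a b]; exact hα'H
        · show τ * (τ * α * τ) * τ⁻¹ ∈ H
          rw [show τ⁻¹ = τ from swap_inv a b, show τ * (τ * α * τ) * τ = (τ * τ) * α * (τ * τ) by group, ττ]
          simpa using hαH
      refine Subgroup.mem_normalizer_iff.mpr fun g => ⟨fun hg => hle hg, fun hg => ?_⟩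
      have := hle hg
      simp only [Subgroup.mem_comap, MulEquiv.coe_toMonoidHom, MulAut.conj_apply,
        show τ⁻¹ = τ from swap_inv a b] at this
      rwa [show τ * (τ * g * τ) * τ = (τ * τ) * g * (τ * τ) by group, ττ, one_mul, mul_one] at this
  -- the transpositions at `a`
  have hstar : ∀ i : ℕ, 3 ≤ i → (hi : i < n) → swap a ⟨i, hi⟩ ∈ M := by
    by_cases hodd : n % 2 = 1
    · have hs' : s = 2 := by rw [hs, if_pos hodd]
      have adj : ∀ i : ℕ, 2 ≤ i → (hi : i + 1 < n) → swap (⟨i, by omega⟩ : Fin n) ⟨i + 1, hi⟩ ∈ M := by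
        intro i h2
        induction i, h2 using Nat.le_induction with
        | base => intro _; exact hτM
        | succ i h2 ih =>
          intro hi
          have := mul_mem (mul_mem hαM (ih (by omega))) (inv_mem hαM)
          rw [← swap_apply_apply, hstep _ ⟨i + 1, by omega⟩ (by simp; omega) rfl,
            hstep _ ⟨i + 1 + 1, hi⟩ (by simp; omega) rfl] at this
          exact this
      intro i h3
      induction i, h3 using Nat.le_induction with
      | base => intro _; exact hτM
      | succ i h3 ih =>
        intro hi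
        have := mul_mem (mul_mem (adj i (by omega) hi) (ih (by omega))) (inv_mem (adj i (by omega) hi))
        rw [← swap_apply_apply, swap_apply_left,
          swap_apply_of_ne_of_ne (by simp [a, Fin.ext_iff]; omega) (by simp [a, Fin.ext_iff]; omega)] at this
        exact this
    · have hs' : s = 3 := by rw [hs, if_neg hodd]
      intro i h3
      induction i, h3 using Nat.le_induction with
      | base => intro _; exact hτM
      | succ i h3 ih =>
        intro hi
        have := mul_mem (mul_mem hαM (ih (by omega))) (inv_mem hαM)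
        rw [← swap_apply_apply, hfix a (by simp [a]; omega), hstep _ ⟨i + 1, hi⟩ (by simp; omega) rfl] at this
        exact this
  -- the first three-cycle
  have h234 : cyc3 a b c ∈ H := by
    have hm : τ * α * τ * α⁻¹ ∈ H := mul_mem hα'H (inv_mem hαH)
    rw [show τ * α * τ * α⁻¹ = τ * (α * τ * α⁻¹) by group, show α * τ * α⁻¹ = swap (α a) (α b) from (swap_apply_apply α a b).symm] at hm
    have hαb : α b = c := hstep b c (by simp [b]; omega) rfl
    rw [hαb] at hm
    by_cases hodd : n % 2 = 1
    · have hs' : s = 2 := by rw [hs, if_pos hodd]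
      rw [hstep a b (by simp [a]; omega) rfl] at hm
      exact hm
    · have hs' : s = 3 := by rw [hs, if_neg hodd]
      rw [hfix a (by simp [a]; omega), show τ * swap a c = cyc3 b a c by rw [cyc3, swap_comm b a]] at hm
      have := inv_mem hm
      rwa [cyc3_inv (by simp [a, b, Fin.ext_iff]) (by simp [b, c, Fin.ext_iff]) (by simp [a, c, Fin.ext_iff])] at this
  refine altOn_le (a := a) (b := b) (by simp [a, b, Fin.ext_iff]) fun j hj hja hjb => ?_
  rw [mem_tail2] at hj
  by_cases hjc : j = c
  · rw [hjc]; exact h234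
  have hj3 : 3 ≤ j.val := by
    simp [a, Fin.ext_iff] at hja; omega
  have h4 : swap c j ∈ M := by
    have := mul_mem (mul_mem (hstar j.val hj3 j.isLt) (hstar 4 (by omega) (by omega)))
      (inv_mem (hstar j.val hj3 j.isLt))
    rw [← swap_apply_apply, swap_apply_left, swap_apply_of_ne_of_ne (by simp [a, c, Fin.ext_iff])
      (fun e => hjc e.symm)] at this
    rwa [swap_comm]
  have := (Subgroup.mem_normalizer_iff.mp (hnorm h4) (cyc3 a b c)).mp h234
  rwa [cyc3_conj, swap_apply_of_ne_of_ne (by simp [a, c, Fin.ext_iff]) (Ne.symm hja),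
    swap_apply_of_ne_of_ne (by simp [b, c, Fin.ext_iff]) (Ne.symm hjb), swap_apply_left] at this

end Cfsg.Agent.KSG55.SLn
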