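import Cfsg.Agent.KSG55.SLn.Model

set_option autoImplicit false

/-! The root system from a copy of `SL₃` glued to the alternating group. -/

namespace Cfsg.Agent.KSG55.SLn

open Matrix Equiv Cfsg.Agent.KSG55.Pres Cfsg.Agent.KSG55.Lin

variable {F : Type*} [Field F] {n : ℕ}

/-- Extending a partial map to a permutation. -/
theorem exists_perm {k : ℕ} (g f : Fin k → Fin n) (hg : Function.Injective g) (hf : Function.Injective f) :
    ∃ σ : Perm (Fin n), ∀ i, σ (g i) = f i := by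
  classical
  refine ⟨Equiv.extendSubtype ((Equiv.ofInjective g hg).symm.trans (Equiv.ofInjective f hf)), fun i => ?_⟩
  rw [Equiv.extendSubtype_apply_of_mem _ _ ⟨i, rfl⟩]
  show f ((Equiv.ofInjective g hg).symm ⟨g i, _⟩) = f i
  rw [Equiv.ofInjective_symm_apply]

/-- An elementary matrix in the corner, totalised. -/
def tv (a b : Fin 3) (t : F) : Matrix.SpecialLinearGroup (Fin 3) F :=
  if h : a = b then 1 else SpecialLinearGroup.transvection h t

theorem tv_eq {a b : Fin 3} (h : a ≠ b) (t : F) : tv a b t = SpecialLinearGroup.transvection h t := dif_neg h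

theorem tv_model (a b : Fin 3) (h : a ≠ b) (t : F) : (model (1 : Fˣ)).x a b t = tv a b t := by
  rw [model_x 1 h, tv_eq h]

theorem tv01 (t : F) : tv 0 1 t = eM (mU t) := by
  rw [← tv_model 0 1 (by decide), Sys3.x01]; rfl

theorem tv10 (t : F) : tv 1 0 t = eM (mL t) := by
  rw [← tv_model 1 0 (by decide), Sys3.x10]; rfl

theorem tv_rot (k i j : Fin 3) (h : i ≠ j) (t : F) :
    (mW : Matrix.SpecialLinearGroup (Fin 3) F) ^ (k : ℕ) * tv i j t *
      ((mW : Matrix.SpecialLinearGroup (Fin 3) F) ^ (k : ℕ))⁻¹ = tv (i + k) (j + k) t := by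
  rw [← tv_model i j h, ← tv_model (i + k) (j + k) (fun e => h (add_right_cancel e))]
  exact (model (1 : Fˣ)).rot k i j t

/-- The gluing data. -/
structure Glue (F : Type*) [Field F] {n : ℕ} (hn : 4 ≤ n) (G : Type*) [Group G] where
  θ : Matrix.SpecialLinearGroup (Fin 3) F →* G
  π : alternatingGroup (Fin n) →* G
  compat : θ mW = π (w0 hn)
  cent : ∀ τ : alternatingGroup (Fin n), (τ : Perm (Fin n)) ⟨0, by omega⟩ = ⟨0, by omega⟩ →
    (τ : Perm (Fin n)) ⟨1, by omega⟩ = ⟨1, by omega⟩ → ∀ M, Commute (π τ) (θ (eM M))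
  flip : ∀ τ : alternatingGroup (Fin n),
    (τ : Perm (Fin n)) = swap ⟨0, by omega⟩ ⟨1, by omega⟩ * swap ⟨2, by omega⟩ ⟨3, by omega⟩ →
    ∀ M, π τ * θ (eM M) * (π τ)⁻¹ = θ (eM (swap2 M))

namespace Glue

/-- The first point. -/
abbrev o0 (hn : 4 ≤ n) : Fin n := ⟨0, by omega⟩
/-- The second point. -/
abbrev o1 (hn : 4 ≤ n) : Fin n := ⟨1, by omega⟩
/-- The third point. -/
abbrev o2 (hn : 4 ≤ n) : Fin n := ⟨2, by omega⟩
/-- The fourth point. -/
abbrev o3 (hn : 4 ≤ n) : Fin n := ⟨3, by omega⟩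

/-- The involution exchanging the first two points. -/
def beta (hn : 4 ≤ n) : alternatingGroup (Fin n) :=
  ⟨swap (o0 hn) (o1 hn) * swap (o2 hn) (o3 hn), by
    rw [Equiv.Perm.mem_alternatingGroup, map_mul, Perm.sign_swap (by simp [Fin.ext_iff]),
      Perm.sign_swap (by simp [Fin.ext_iff])]
    rfl⟩

theorem exists_even_pair (hn : 4 ≤ n) (p : Fin n × Fin n) : ∃ σ : alternatingGroup (Fin n),
    p.1 ≠ p.2 → (σ : Perm (Fin n)) (o0 hn) = p.1 ∧ (σ : Perm (Fin n)) (o1 hn) = p.2 := by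
  by_cases h : p.1 = p.2
  · exact ⟨1, fun h' => absurd h h'⟩
  obtain ⟨σ, hσ⟩ := exists_perm ![o0 hn, o1 hn] ![p.1, p.2]
    (fun a b e => by fin_cases a <;> fin_cases b <;> simp [Fin.ext_iff] at e ⊢)
    (fun a b e => by fin_cases a <;> fin_cases b <;> simp [h, Ne.symm h] at e ⊢)
  have h0 := hσ 0
  have h1 := hσ 1
  rcases Int.units_eq_one_or (Perm.sign σ) with hs | hs
  · exact ⟨⟨σ, Equiv.Perm.mem_alternatingGroup.mpr hs⟩, fun _ => ⟨h0, h1⟩⟩
  · refine ⟨⟨σ * swap (o2 hn) (o3 hn), ?_⟩, fun _ => ⟨?_, ?_⟩⟩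
    · rw [Equiv.Perm.mem_alternatingGroup, map_mul, hs, Perm.sign_swap (by simp [Fin.ext_iff])]; rfl
    · show σ (swap _ _ _) = _
      rw [swap_apply_of_ne_of_ne (by simp [Fin.ext_iff]) (by simp [Fin.ext_iff])]; exact h0
    · show σ (swap _ _ _) = _
      rw [swap_apply_of_ne_of_ne (by simp [Fin.ext_iff]) (by simp [Fin.ext_iff])]; exact h1

/-- A chosen even permutation taking the first two points to a pair. -/
noncomputable def pick (hn : 4 ≤ n) (i j : Fin n) : alternatingGroup (Fin n) :=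
  (exists_even_pair hn (i, j)).choose

/-- The corner points. -/
abbrev e3 (hn : 4 ≤ n) : Fin 3 → Fin n := pt3 (show 3 ≤ n by omega)

variable {hn : 4 ≤ n} {G : Type*} [Group G] (D : Glue F hn G)

/-- The root elements. -/
noncomputable def X (i j : Fin n) (t : F) : G :=
  D.π (pick hn i j) * D.θ (eM (mU t)) * (D.π (pick hn i j))⁻¹

theorem base (σ : alternatingGroup (Fin n)) {i j : Fin n} (hij : i ≠ j) (h0 : (σ : Perm (Fin n)) (o0 hn) = i)
    (h1 : (σ : Perm (Fin n)) (o1 hn) = j) (t : F) : D.π σ * D.θ (eM (mU t)) * (D.π σ)⁻¹ = D.X i j t := by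
  obtain ⟨p0, p1⟩ := (exists_even_pair hn (i, j)).choose_spec hij
  set ρ := pick hn i j with hρ
  have e0 : ((ρ⁻¹ * σ : alternatingGroup (Fin n)) : Perm (Fin n)) (o0 hn) = o0 hn := by
    rw [Subgroup.coe_mul, Subgroup.coe_inv, Perm.mul_apply, h0, Perm.inv_eq_iff_eq]; exact p0.symm
  have e1 : ((ρ⁻¹ * σ : alternatingGroup (Fin n)) : Perm (Fin n)) (o1 hn) = o1 hn := by
    rw [Subgroup.coe_mul, Subgroup.coe_inv, Perm.mul_apply, h1, Perm.inv_eq_iff_eq]; exact p1.symm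
  have hc := (D.cent (ρ⁻¹ * σ) e0 e1 (mU t)).eq
  calc D.π σ * D.θ (eM (mU t)) * (D.π σ)⁻¹
      = D.π ρ * (D.π (ρ⁻¹ * σ) * D.θ (eM (mU t)) * (D.π (ρ⁻¹ * σ))⁻¹) * (D.π ρ)⁻¹ := by
        rw [map_mul, map_inv]; group
    _ = _ := by rw [hc, mul_inv_cancel_right]; rfl

theorem cov (τ : alternatingGroup (Fin n)) {i j : Fin n} (hij : i ≠ j) (t : F) :
    D.π τ * D.X i j t * (D.π τ)⁻¹ = D.X ((τ : Perm (Fin n)) i) ((τ : Perm (Fin n)) j) t := by
  obtain ⟨p0, p1⟩ := (exists_even_pair hn (i, j)).choose_spec hij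
  rw [← D.base (τ * pick hn i j) (fun e => hij ((τ : Perm (Fin n)).injective e))
    (congrArg (τ : Perm (Fin n)) p0) (congrArg (τ : Perm (Fin n)) p1)]
  rw [X, map_mul]; group

theorem flipped (σ : alternatingGroup (Fin n)) {i j : Fin n} (hij : i ≠ j) (h0 : (σ : Perm (Fin n)) (o0 hn) = i)
    (h1 : (σ : Perm (Fin n)) (o1 hn) = j) (t : F) : D.π σ * D.θ (eM (mL t)) * (D.π σ)⁻¹ = D.X j i t := by
  have e := D.flip (beta hn) rfl (mU t)
  rw [swap2_mU] at e
  rw [← e, ← D.base (σ * beta hn) hij.symm, map_mul]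
  · group
  · show (σ : Perm (Fin n)) (swap (o0 hn) (o1 hn) (swap (o2 hn) (o3 hn) (o0 hn))) = j
    rw [swap_apply_of_ne_of_ne (a := o2 hn) (b := o3 hn) (by simp [Fin.ext_iff]) (by simp [Fin.ext_iff]),
      swap_apply_left, h1]
  · show (σ : Perm (Fin n)) (swap (o0 hn) (o1 hn) (swap (o2 hn) (o3 hn) (o1 hn))) = i
    rw [swap_apply_of_ne_of_ne (a := o2 hn) (b := o3 hn) (by simp [Fin.ext_iff]) (by simp [Fin.ext_iff]),
      swap_apply_right, h0]

theorem exists_hom {i j : Fin n} (hij : i ≠ j) :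
    ∃ f : Matrix.SpecialLinearGroup (Fin 2) F →* G, (∀ t, f (mU t) = D.X i j t) ∧ ∀ t, f (mL t) = D.X j i t := by
  obtain ⟨p0, p1⟩ := (exists_even_pair hn (i, j)).choose_spec hij
  exact ⟨(MulAut.conj (D.π (pick hn i j))).toMonoidHom.comp (D.θ.comp eM),
    fun t => rfl, fun t => D.flipped _ hij p0 p1 t⟩

theorem corner {a b : Fin 3} (hab : a ≠ b) (t : F) : D.θ (tv a b t) = D.X (e3 hn a) (e3 hn b) t := by
  have hw : ∀ k : Fin 3, D.θ ((mW : Matrix.SpecialLinearGroup (Fin 3) F) ^ (k : ℕ)) = D.π (w0 hn ^ (k : ℕ)) :=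
    fun k => by rw [map_pow, map_pow, D.compat]
  have hp : ∀ (k c : Fin 3), ((w0 hn ^ (k : ℕ) : alternatingGroup (Fin n)) : Perm (Fin n)) (e3 hn c) =
      e3 hn (c + k) := fun k c => by
    fin_cases k
    · simp
    · simp only [pow_one]; exact w0_pt3 hn c
    · simp only [pow_two, Subgroup.coe_mul, Perm.mul_apply]
      show (w0 hn : Perm (Fin n)) ((w0 hn : Perm (Fin n)) (pt3 _ c)) = _
      rw [w0_pt3, w0_pt3, add_assoc]
      rfl
  have hne : e3 hn 0 ≠ e3 hn 1 := by simp [pt3, Fin.ext_iff]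
  have tr : ∀ (k u v : Fin 3), u ≠ v → (∀ t, D.θ (tv u v t) = D.X (e3 hn u) (e3 hn v) t) →
      D.θ (tv (u + k) (v + k) t) = D.X (e3 hn (u + k)) (e3 hn (v + k)) t := fun k u v huv h => by
    rw [← tv_rot k u v huv, map_mul, map_mul, map_inv, hw, h,
      D.cov _ (i := e3 hn u) (j := e3 hn v) (fun e => huv (Fin.castLE_injective _ e)), hp, hp]
  have h01 : ∀ t, D.θ (tv 0 1 t) = D.X (e3 hn 0) (e3 hn 1) t := fun t => by
    rw [tv01, ← D.base 1 hne rfl rfl, map_one, one_mul, inv_one, mul_one]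
  have h10 : ∀ t, D.θ (tv 1 0 t) = D.X (e3 hn 1) (e3 hn 0) t := fun t => by
    rw [tv10, ← D.flipped 1 hne rfl rfl, map_one, one_mul, inv_one, mul_one]
  have hcases : (∃ k, a = 0 + k ∧ b = 1 + k) ∨ ∃ k, a = 1 + k ∧ b = 0 + k := by revert hab a b; decide
  rcases hcases with ⟨k, rfl, rfl⟩ | ⟨k, rfl, rfl⟩
  exacts [tr k 0 1 (by decide) h01, tr k 1 0 (by decide) h10]

/-- Every triple comes from the corner. -/
theorem triple (f : Fin 3 → Fin n) (hf : Function.Injective f) :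
    ∃ (ψ : Matrix.SpecialLinearGroup (Fin 3) F →* G) (p : Perm (Fin 3)),
      ∀ a b, a ≠ b → ∀ t, D.X (f a) (f b) t = ψ (tv (p a) (p b) t) := by
  obtain ⟨σ, hσ⟩ := exists_perm (e3 hn) f (Fin.castLE_injective _) hf
  have fin : ∀ (τ : alternatingGroup (Fin n)) (p : Perm (Fin 3)), (∀ c, (τ : Perm (Fin n)) (e3 hn (p c)) = f c) →
      ∀ a b, a ≠ b → ∀ t, D.X (f a) (f b) t = ((MulAut.conj (D.π τ)).toMonoidHom.comp D.θ) (tv (p a) (p b) t) :=
    fun τ p h a b hab t => by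
      show _ = D.π τ * D.θ _ * (D.π τ)⁻¹
      rw [D.corner (fun e => hab (p.injective e)),
        D.cov τ (i := e3 hn (p a)) (j := e3 hn (p b)) (fun e => hab (p.injective (Fin.castLE_injective _ e))), h, h]
  rcases Int.units_eq_one_or (Perm.sign σ) with hs | hs
  · exact ⟨_, 1, fin ⟨σ, Equiv.Perm.mem_alternatingGroup.mpr hs⟩ 1 fun c => by simp [hσ]⟩
  · refine ⟨_, swap 0 1, fin ⟨σ * swap (e3 hn 0) (e3 hn 1), ?_⟩ (swap 0 1) fun c => ?_⟩
    · rw [Equiv.Perm.mem_alternatingGroup, map_mul, hs, Perm.sign_swap (by simp [pt3, Fin.ext_iff])]; rfl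
    · show σ (swap _ _ (e3 hn (swap 0 1 c))) = f c
      rw [← (show Function.Injective (e3 hn) from Fin.castLE_injective _).map_swap, swap_apply_self]
      exact hσ c

theorem exists_sys (F : Type*) [Field F] [Fintype F] (p : Perm (Fin 3)) :
    ∃ R : RootSys F 3 (Matrix.SpecialLinearGroup (Fin 3) F), ∀ a b, R.x a b = tv (p a) (p b) := by
  obtain ⟨a, ha⟩ := IsCyclic.exists_generator (α := Fˣ)
  obtain ⟨R, hR⟩ := (model a).exists_rootSys ha (fun s t => (model_rels a s t).1) (fun s t => (model_rels a s t).2.1)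
    (fun s t => (model_rels a s t).2.2)
  have e : ∀ u v : Fin 3, u ≠ v → ∀ t : F, R.x u v t = tv u v t := fun u v h t => by
    rw [hR, model_x a h, tv_eq h]
  have hp : ∀ {u v : Fin 3}, u ≠ v → p u ≠ p v := fun h e => h (p.injective e)
  refine ⟨⟨fun u v => tv (p u) (p v), fun i j h s t => ?_, fun i j k h h' h'' s t => ?_, fun i j k l h h' h'' h3 s t => ?_,
    fun i j h => ?_⟩, fun _ _ => rfl⟩
  · simp only [← e _ _ (hp h)]; exact R.add _ _ (hp h) s t
  · simp only [← e _ _ (hp h), ← e _ _ (hp h'), ← e _ _ (hp h'')]; exact R.comm _ _ _ (hp h) (hp h') (hp h'') s t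
  · simp only [← e _ _ (hp h), ← e _ _ (hp h')]; exact R.comm0 _ _ _ _ (hp h) (hp h') (hp h'') (hp h3) s t
  · obtain ⟨f, f1, f2⟩ := R.sl2 _ _ (hp h)
    exact ⟨f, fun t => by rw [f1, e _ _ (hp h)], fun t => by rw [f2, e _ _ (hp h).symm]⟩

variable [Fintype F]

theorem X_add {i j : Fin n} (hij : i ≠ j) (s t : F) : D.X i j (s + t) = D.X i j s * D.X i j t := by
  obtain ⟨f, f1, -⟩ := D.exists_hom hij
  rw [← f1, ← f1, ← f1, ← map_mul, mU_mul]

theorem inj3 {i j k : Fin n} (hij : i ≠ j) (hjk : j ≠ k) (hik : i ≠ k) :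
    Function.Injective ![i, j, k] := fun a b e => by
  fin_cases a <;> fin_cases b <;> simp [hij, hjk, hik, hij.symm, hjk.symm, hik.symm] at e ⊢

theorem X_comm {i j k : Fin n} (hij : i ≠ j) (hjk : j ≠ k) (hik : i ≠ k) (s t : F) :
    D.X i j s * D.X j k t = D.X i k (s * t) * D.X j k t * D.X i j s := by
  obtain ⟨ψ, p, h⟩ := D.triple _ (inj3 hij hjk hik)
  obtain ⟨R, hR⟩ := exists_sys F p
  have h01 : ∀ t, D.X i j t = _ := fun t => h 0 1 (by decide) t
  have h12 : ∀ t, D.X j k t = _ := fun t => h 1 2 (by decide) t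
  have h02 : ∀ t, D.X i k t = _ := fun t => h 0 2 (by decide) t
  rw [h01, h12, h02, ← map_mul, ← map_mul, ← map_mul, ← hR, ← hR, ← hR]
  exact congrArg ψ (R.comm 0 1 2 (by decide) (by decide) (by decide) s t)

theorem X_row {i j k : Fin n} (hij : i ≠ j) (hik : i ≠ k) (hjk : j ≠ k) (s t : F) :
    Commute (D.X i j s) (D.X i k t) := by
  obtain ⟨ψ, p, h⟩ := D.triple _ (inj3 hij hjk hik)
  obtain ⟨R, hR⟩ := exists_sys F p
  have h01 : ∀ t, D.X i j t = _ := fun t => h 0 1 (by decide) t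
  have h02 : ∀ t, D.X i k t = _ := fun t => h 0 2 (by decide) t
  rw [h01, h02, ← hR, ← hR]
  exact (R.comm0 0 1 0 2 (by decide) (by decide) (by decide) (by decide) s t).map ψ

theorem X_col {i j k : Fin n} (hik : i ≠ k) (hjk : j ≠ k) (hij : i ≠ j) (s t : F) :
    Commute (D.X i k s) (D.X j k t) := by
  obtain ⟨ψ, p, h⟩ := D.triple _ (inj3 hij hjk hik)
  obtain ⟨R, hR⟩ := exists_sys F p
  have h12 : ∀ t, D.X j k t = _ := fun t => h 1 2 (by decide) t
  have h02 : ∀ t, D.X i k t = _ := fun t => h 0 2 (by decide) t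
  rw [h12, h02, ← hR, ← hR]
  exact (R.comm0 0 2 1 2 (by decide) (by decide) (by decide) (by decide) s t).map ψ

/-- The torus word. -/
noncomputable def hw (i j : Fin n) (d : F) : G :=
  D.X i j d * D.X j i (-d⁻¹) * D.X i j d * (D.X i j (-1) * D.X j i (-(-1 : F)⁻¹) * D.X i j (-1))

theorem torus {i j k : Fin n} (hij : i ≠ j) (hjk : j ≠ k) (hik : i ≠ k) (d : Fˣ) (t : F) :
    D.hw i j d * D.X i k t * (D.hw i j d)⁻¹ = D.X i k ((d : F) * t) ∧
    D.hw i j d * D.X j k t * (D.hw i j d)⁻¹ = D.X j k ((d : F)⁻¹ * t) ∧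
    D.hw i j d * D.X k j t * (D.hw i j d)⁻¹ = D.X k j ((d : F) * t) := by
  obtain ⟨ψ, p, h⟩ := D.triple _ (inj3 hij hjk hik)
  obtain ⟨R, hR⟩ := exists_sys F p
  have tr : ∀ a b : Fin 3, a ≠ b → ∀ t, D.X (![i, j, k] a) (![i, j, k] b) t = ψ (R.x a b t) := fun a b hab t => by
    rw [h a b hab, hR]
  have hh : D.hw i j d = ψ (R.h (show (0 : Fin 3) ≠ 1 by decide) d) := by
    rw [R.h_eq, hw]
    simp only [RootSys.w, map_mul]
    rw [← tr 0 1 (by decide), ← tr 0 1 (by decide), ← tr 1 0 (by decide), ← tr 1 0 (by decide)]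
    rfl
  rw [hh, ← map_inv]
  refine ⟨?_, ?_, ?_⟩
  · show _ * D.X (![i, j, k] 0) (![i, j, k] 2) t * _ = D.X (![i, j, k] 0) (![i, j, k] 2) _
    rw [tr 0 2 (by decide), tr 0 2 (by decide), ← map_mul, ← map_mul,
      R.h_row_fst (by decide) (by decide) (by decide)]
  · show _ * D.X (![i, j, k] 1) (![i, j, k] 2) t * _ = D.X (![i, j, k] 1) (![i, j, k] 2) _
    rw [tr 1 2 (by decide), tr 1 2 (by decide), ← map_mul, ← map_mul,
      R.h_row_snd (by decide) (by decide) (by decide)]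
  · show _ * D.X (![i, j, k] 2) (![i, j, k] 1) t * _ = D.X (![i, j, k] 2) (![i, j, k] 1) _
    rw [tr 2 1 (by decide), tr 2 1 (by decide), ← map_mul, ← map_mul,
      R.h_col_snd (by decide) (by decide) (by decide)]

theorem disjoint_base {a : Fˣ} {p : ℕ} [Fact p.Prime] [Algebra (ZMod p) F]
    (hα : Algebra.adjoin (ZMod p) {(a : F) ^ 2} = ⊤)
    (b : Commute (D.X (o0 hn) (o1 hn) 1) (D.X (o2 hn) (o3 hn) 1)) :
    ∀ s t, Commute (D.X (o0 hn) (o1 hn) s) (D.X (o2 hn) (o3 hn) t) := by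
  have n01 : o0 hn ≠ o1 hn := by simp [Fin.ext_iff]
  have n02 : o0 hn ≠ o2 hn := by simp [Fin.ext_iff]
  have n03 : o0 hn ≠ o3 hn := by simp [Fin.ext_iff]
  have n12 : o1 hn ≠ o2 hn := by simp [Fin.ext_iff]
  have n13 : o1 hn ≠ o3 hn := by simp [Fin.ext_iff]
  have n23 : o2 hn ≠ o3 hn := by simp [Fin.ext_iff]
  have first : ∀ (d : Fˣ) (s t : F), Commute (D.X (o0 hn) (o1 hn) s) (D.X (o2 hn) (o3 hn) t) →
      Commute (D.X (o0 hn) (o1 hn) ((d : F) * s)) (D.X (o2 hn) (o3 hn) ((d : F)⁻¹ * t)) := fun d s t h => by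
    rw [← (D.torus n02 n12.symm n01 d s).1, ← (D.torus n02 n23 n03 d t).2.1]
    exact (Commute.conj_iff _).mpr h
  have second : ∀ (d : Fˣ) (s t : F), Commute (D.X (o0 hn) (o1 hn) s) (D.X (o2 hn) (o3 hn) t) →
      Commute (D.X (o0 hn) (o1 hn) ((d : F) * s)) (D.X (o2 hn) (o3 hn) ((d : F) * t)) := fun d s t h => by
    rw [← (D.torus n03 n13.symm n01 d s).1, ← (D.torus n03 n23.symm n02 d t).2.2]
    exact (Commute.conj_iff _).mpr h
  have zero : ∀ {i j : Fin n}, i ≠ j → D.X i j 0 = 1 := fun {i j} h => by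
    obtain ⟨f, f1, -⟩ := D.exists_hom h
    rw [← f1, mU_zero, map_one]
  have h1 : ∀ s, Commute (D.X (o0 hn) (o1 hn) s) (D.X (o2 hn) (o3 hn) 1) :=
    forall_of_span hα (fun s => Commute (D.X (o0 hn) (o1 hn) s) (D.X (o2 hn) (o3 hn) 1))
      (by rw [zero n01]; exact Commute.one_left _)
      (fun x y hx hy => by rw [D.X_add n01]; exact hx.mul_left hy)
      (fun x hx => by
        have := second a _ _ (first a x 1 hx)
        rwa [← mul_assoc, ← mul_assoc, ← pow_two, mul_inv_cancel₀ a.ne_zero, one_mul] at this) b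
  intro s
  refine forall_of_span hα (fun t => Commute (D.X (o0 hn) (o1 hn) s) (D.X (o2 hn) (o3 hn) t))
    (by rw [zero n23]; exact Commute.one_right _)
    (fun x y hx hy => by rw [D.X_add n23]; exact hx.mul_right hy) (fun x hx => ?_) (h1 s)
  have := second a _ _ (first a⁻¹ s x hx)
  rw [← mul_assoc, ← mul_assoc, Units.val_inv_eq_inv_val, mul_inv_cancel₀ a.ne_zero, one_mul, inv_inv,
    ← pow_two] at this
  exact this

theorem disjoint_all (C : ∀ s t, Commute (D.X (o0 hn) (o1 hn) s) (D.X (o2 hn) (o3 hn) t)) {i j k l : Fin n}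
    (hij : i ≠ j) (hkl : k ≠ l) (hik : i ≠ k) (hil : i ≠ l) (hjk : j ≠ k) (hjl : j ≠ l) (s t : F) :
    Commute (D.X i j s) (D.X k l t) := by
  have n01 : o0 hn ≠ o1 hn := by simp [Fin.ext_iff]
  have n02 : o0 hn ≠ o2 hn := by simp [Fin.ext_iff]
  have n03 : o0 hn ≠ o3 hn := by simp [Fin.ext_iff]
  have n12 : o1 hn ≠ o2 hn := by simp [Fin.ext_iff]
  have n13 : o1 hn ≠ o3 hn := by simp [Fin.ext_iff]
  have n23 : o2 hn ≠ o3 hn := by simp [Fin.ext_iff]
  have move : ∀ (σ : alternatingGroup (Fin n)) {a b c d : Fin n}, a ≠ b → c ≠ d → ∀ s t,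
      Commute (D.X a b s) (D.X c d t) → Commute (D.X ((σ : Perm (Fin n)) a) ((σ : Perm (Fin n)) b) s)
        (D.X ((σ : Perm (Fin n)) c) ((σ : Perm (Fin n)) d) t) := fun σ a b c d hab hcd s t h => by
    rw [← D.cov σ hab, ← D.cov σ hcd]
    exact (Commute.conj_iff _).mpr h
  have c31 : ∀ s t, Commute (D.X (o3 hn) (o1 hn) s) (D.X (o0 hn) (o2 hn) t) := fun s t => by
    let ρ : alternatingGroup (Fin n) := ⟨Equiv.swap (o1 hn) (o2 hn) * Equiv.swap (o2 hn) (o3 hn), by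
      rw [Equiv.Perm.mem_alternatingGroup, map_mul, Perm.sign_swap n12, Perm.sign_swap n23]; rfl⟩
    have e0 : (ρ : Perm (Fin n)) (o0 hn) = o0 hn := by
      show Equiv.swap (o1 hn) (o2 hn) (Equiv.swap (o2 hn) (o3 hn) (o0 hn)) = _
      rw [swap_apply_of_ne_of_ne n02 n03, swap_apply_of_ne_of_ne n01 n02]
    have e1 : (ρ : Perm (Fin n)) (o1 hn) = o2 hn := by
      show Equiv.swap (o1 hn) (o2 hn) (Equiv.swap (o2 hn) (o3 hn) (o1 hn)) = _
      rw [swap_apply_of_ne_of_ne n12 n13, swap_apply_left]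
    have e2 : (ρ : Perm (Fin n)) (o2 hn) = o3 hn := by
      show Equiv.swap (o1 hn) (o2 hn) (Equiv.swap (o2 hn) (o3 hn) (o2 hn)) = _
      rw [swap_apply_left, swap_apply_of_ne_of_ne n13.symm n23.symm]
    have e3 : (ρ : Perm (Fin n)) (o3 hn) = o1 hn := by
      show Equiv.swap (o1 hn) (o2 hn) (Equiv.swap (o2 hn) (o3 hn) (o3 hn)) = _
      rw [swap_apply_right, swap_apply_right]
    have h := move ρ n01 n23 t s (C t s)
    rw [e0, e1, e2, e3] at h
    exact h.symm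
  -- the other orientation
  have C' : ∀ s t, Commute (D.X (o0 hn) (o1 hn) s) (D.X (o3 hn) (o2 hn) t) := fun s t => by
    set y := D.X (o3 hn) (o1 hn) t
    set z := D.X (o1 hn) (o2 hn) (1 : F)
    have ht : D.X (o3 hn) (o2 hn) t = y * z * y⁻¹ * z⁻¹ := by
      have h := D.X_comm n13.symm n12 n23.symm t 1
      rw [mul_one] at h
      simp only [y, z]
      rw [h]; group
    set v := D.X (o0 hn) (o2 hn) s
    set x := D.X (o0 hn) (o1 hn) s
    have hy : Commute x y := D.X_col n01 n13.symm n03 s t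
    have hz : x * z = v * z * x := by
      have h := D.X_comm n01 n12 n02 s 1
      rwa [mul_one] at h
    have hv : Commute y v := c31 t s
    have h32 : Commute v (D.X (o3 hn) (o2 hn) t) := D.X_col n02 n23.symm n03 s t
    show x * D.X (o3 hn) (o2 hn) t = D.X (o3 hn) (o2 hn) t * x
    rw [← mul_inv_eq_iff_eq_mul]
    calc x * D.X (o3 hn) (o2 hn) t * x⁻¹ = (x * y) * z * y⁻¹ * z⁻¹ * x⁻¹ := by rw [ht]; group
      _ = y * (x * z) * y⁻¹ * (x * z)⁻¹ := by rw [hy.eq]; group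
      _ = y * (v * z * x) * y⁻¹ * (v * z * x)⁻¹ := by rw [hz]
      _ = (y * v) * z * (x * y⁻¹) * x⁻¹ * z⁻¹ * v⁻¹ := by group
      _ = v * y * z * (y⁻¹ * x) * x⁻¹ * z⁻¹ * v⁻¹ := by rw [hv.eq, hy.inv_right.eq]
      _ = v * D.X (o3 hn) (o2 hn) t * v⁻¹ := by rw [ht]; group
      _ = _ := by rw [h32.eq, mul_inv_cancel_right]
  obtain ⟨σ, hσ⟩ := exists_perm ![o0 hn, o1 hn, o2 hn, o3 hn] ![i, j, k, l]
    (fun a b e => by fin_cases a <;> fin_cases b <;> simp [Fin.ext_iff] at e ⊢)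
    (fun a b e => by fin_cases a <;> fin_cases b <;>
      simp [hij, hkl, hik, hil, hjk, hjl, hij.symm, hkl.symm, hik.symm, hil.symm, hjk.symm, hjl.symm] at e ⊢)
  have s0 : σ (o0 hn) = i := hσ 0
  have s1 : σ (o1 hn) = j := hσ 1
  have s2 : σ (o2 hn) = k := hσ 2
  have s3 : σ (o3 hn) = l := hσ 3
  rcases Int.units_eq_one_or (Perm.sign σ) with hs | hs
  · have h := move ⟨σ, Equiv.Perm.mem_alternatingGroup.mpr hs⟩ n01 n23 s t (C s t)
    simpa [s0, s1, s2, s3] using h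
  · have h := move ⟨σ * swap (o2 hn) (o3 hn), by
      rw [Equiv.Perm.mem_alternatingGroup, map_mul, hs, Perm.sign_swap n23]; rfl⟩ n01 n23.symm s t (C' s t)
    simpa [s0, s1, s2, s3, swap_apply_of_ne_of_ne n02 n03, swap_apply_of_ne_of_ne n12 n13] using h

/-- The root system in rank `n - 1`. -/
theorem exists_rootSys {a : Fˣ} {p : ℕ} [Fact p.Prime] [Algebra (ZMod p) F]
    (hα : Algebra.adjoin (ZMod p) {(a : F) ^ 2} = ⊤)
    (b : Commute (D.X (o0 hn) (o1 hn) 1) (D.X (o2 hn) (o3 hn) 1)) :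
    ∃ R : RootSys F n G, R.x = D.X := by
  refine ⟨⟨D.X, fun i j h => D.X_add h, fun i j k h h' h'' => D.X_comm h h' h'', ?_, fun i j h => D.exists_hom h⟩,
    rfl⟩
  intro i j k l hij hkl hjk hil s t
  by_cases hik : i = k
  · subst hik
    by_cases hjl : j = l
    · subst hjl
      show D.X i j s * D.X i j t = D.X i j t * D.X i j s
      rw [← D.X_add hij, ← D.X_add hij, add_comm]
    · exact D.X_row hij hkl hjl s t
  by_cases hjl : j = l
  · subst hjl; exact D.X_col hij hkl hik s t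
  · exact D.disjoint_all (D.disjoint_base hα b) hij hkl hik hil hjk hjl s t

end Glue

end Cfsg.Agent.KSG55.SLn
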