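import Cfsg.Agent.KSG55.Lin.Sys3
import Cfsg.Agent.Lib.Dickson.Maximal

set_option autoImplicit false

/-! An element generating `SL₂` together with its image under the reversal. -/

namespace Cfsg.Agent.KSG55.SLn

open Matrix OnePoint Cfsg.Agent.KSG55.Lin Cfsg.Agent.Dickson
open scoped MatrixGroups

attribute [local instance] Cfsg.Agent.PLocalB.lineAction Cfsg.Agent.Dickson.pslLine

variable {F : Type*} [Field F] [Fintype F]

theorem commute_of_dihedral_orders {n : ℕ} (x y : DihedralGroup n) (hx : 3 ≤ orderOf x) (hy : 3 ≤ orderOf y) :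
    x * y = y * x := by
  have key : ∀ z : DihedralGroup n, 3 ≤ orderOf z → ∃ i, z = DihedralGroup.r i := by
    rintro (i | i) hz
    · exact ⟨i, rfl⟩
    · rw [DihedralGroup.orderOf_sr] at hz; omega
  obtain ⟨i, rfl⟩ := key x hx
  obtain ⟨j, rfl⟩ := key y hy
  rw [DihedralGroup.r_mul_r, DihedralGroup.r_mul_r, add_comm]

omit [Fintype F] in
theorem pow_five_of_trace (M : Matrix (Fin 2) (Fin 2) F) (t : F) (hd : M 0 0 * M 1 1 - M 0 1 * M 1 0 = 1)
    (ht : M 0 0 + M 1 1 = t) :
    M * M * M * M * M = (t ^ 4 - 3 * t ^ 2 + 1) • M - (t ^ 3 - 2 * t) • (1 : Matrix (Fin 2) (Fin 2) F) := by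
  have e2 : M * M = t • M - 1 := by
    ext i j
    fin_cases i <;> fin_cases j <;> simp [Matrix.mul_apply, Fin.sum_univ_two] <;>
      first | linear_combination M 0 0 * ht - hd | linear_combination M 0 1 * ht | linear_combination M 1 0 * ht | linear_combination M 1 1 * ht - hd
  have e3 : M * M * M = (t * t - 1) • M - t • (1 : Matrix (Fin 2) (Fin 2) F) := by
    rw [e2, sub_mul, smul_mul_assoc, e2, one_mul]; module
  have e4 : M * M * M * M = (t ^ 3 - 2 * t) • M - (t * t - 1) • (1 : Matrix (Fin 2) (Fin 2) F) := by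
    rw [e3, sub_mul, smul_mul_assoc, smul_mul_assoc, e2, one_mul]; module
  rw [e4, sub_mul, smul_mul_assoc, smul_mul_assoc, e2, one_mul]; module

theorem exists_swap_pair {a : Fˣ} (ha : ∀ x : Fˣ, x ∈ Subgroup.zpowers a) :
    ∃ g : SL(2, F), Subgroup.closure ({g, swap2 g} : Set (SL(2, F))) = ⊤ := by
  classical
  obtain ⟨p, hchar⟩ := CharP.exists F
  obtain ⟨m, hpr, hm⟩ := FiniteField.card F p
  haveI : Fact p.Prime := ⟨hpr⟩
  have gen : ∀ K : Subgroup SL(2, F), (∀ x, mU x ∈ K) → (∀ x, mL x ∈ K) → K = ⊤ := fun K hU hL =>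
    eq_top_of_mem (by rw [mT_eq]; exact mul_mem (mul_mem (hU _) (hL _)) (hU _)) hU
  by_cases hprime : Fintype.card F = p
  · -- a prime field
    refine ⟨mU 1, gen _ (fun x => ?_) (fun x => ?_)⟩
    all_goals
      obtain ⟨k, rfl⟩ : ∃ k : ℕ, (k : F) = x := by
        obtain ⟨z, rfl⟩ := ((ZMod.ringEquiv F hprime).surjective x)
        exact ⟨z.val, by rw [← map_natCast (ZMod.ringEquiv F hprime), ZMod.natCast_zmod_val]⟩
    · have := pow_mem (Subgroup.subset_closure (k := ({mU 1, swap2 (mU 1)} : Set SL(2, F))) (Or.inl rfl)) k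
      rwa [mU_pow, nsmul_one] at this
    · have := pow_mem (Subgroup.subset_closure (k := ({mU 1, swap2 (mU 1)} : Set SL(2, F))) (Or.inr rfl)) k
      rwa [← map_pow, mU_pow, nsmul_one, swap2_mU] at this
  set q := Fintype.card F with hq
  have hq4 : 4 ≤ q := by
    rw [hm]
    have h2m : 2 ≤ (m : ℕ) := by
      have := m.pos
      by_contra h
      have e : (m : ℕ) = 1 := by omega
      exact hprime (by rw [hm, e, pow_one])
    calc 4 = 2 ^ 2 := rfl
      _ ≤ p ^ 2 := Nat.pow_le_pow_left hpr.two_le 2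
      _ ≤ p ^ (m : ℕ) := Nat.pow_le_pow_right hpr.pos h2m
  have hord : orderOf (a : F) = q - 1 := by
    rw [orderOf_units, orderOf_eq_card_of_forall_mem_zpowers ha, Nat.card_units, Nat.card_eq_fintype_card]
  set c : F := (a : F)
  set A : F := ((a⁻¹ : Fˣ) : F) with hA
  have hcA : c * A = 1 := by simp [c, A]
  have hc0 : c ≠ 0 := a.ne_zero
  have hA0 : A ≠ 0 := (a⁻¹).ne_zero
  have hc2 : c ^ 2 ≠ 2 := by
    intro e
    have hp1 : c ^ (2 * (p - 1)) = 1 ∨ (2 : F) = 0 := by
      by_cases h : (2 : F) = 0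
      · exact Or.inr h
      refine Or.inl ?_
      rw [pow_mul, e]
      have h' : ((2 : ℕ) : ZMod p) ≠ 0 := fun h0 => h (by
        have := congrArg (ZMod.castHom dvd_rfl F) h0
        rwa [map_natCast, map_zero] at this)
      have := congrArg (ZMod.castHom dvd_rfl F) (ZMod.pow_card_sub_one_eq_one h')
      rwa [map_pow, map_natCast, map_one, Nat.cast_ofNat] at this
    rcases hp1 with h | h
    · have hle := Nat.le_of_dvd (by have := hpr.two_le; omega) (hord ▸ orderOf_dvd_of_pow_eq_one h)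
      have h2m : 2 ≤ (m : ℕ) := by
        have := m.pos
        by_contra hh
        have e : (m : ℕ) = 1 := by omega
        exact hprime (by rw [hm, e, pow_one])
      have : p ^ 2 ≤ q := hm ▸ Nat.pow_le_pow_right hpr.pos h2m
      have : 2 * p ≤ p ^ 2 := by rw [pow_two]; exact Nat.mul_le_mul_right p hpr.two_le
      omega
    · rw [h] at e; exact pow_ne_zero 2 hc0 e
  let g : SL(2, F) := ⟨!![c, A; 0, A], by rw [Matrix.det_fin_two_of, hcA, mul_zero, sub_zero]⟩
  have hg : (g : Matrix (Fin 2) (Fin 2) F) = !![c, A; 0, A] := rfl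
  have hg00 : g.1 0 0 = c := rfl
  have hg01 : g.1 0 1 = A := rfl
  have hg10 : g.1 1 0 = 0 := rfl
  have hg11 : g.1 1 1 = A := rfl
  refine ⟨g, ?_⟩
  set K := Subgroup.closure ({g, swap2 g} : Set (SL(2, F)))
  have hgK : g ∈ K := Subgroup.subset_closure (Or.inl rfl)
  have hgK' : swap2 g ∈ K := Subgroup.subset_closure (Or.inr rfl)
  set H : Subgroup (PSL2 F) := K.map (QuotientGroup.mk' _) with hH
  have hmem : ∀ s ∈ K, (QuotientGroup.mk s : PSL2 F) ∈ H := fun s hs => ⟨s, hs, rfl⟩
  have hctr : ∀ s : SL(2, F), (QuotientGroup.mk s : PSL2 F) = 1 → ∃ r : F, r ^ 2 = 1 ∧ (s : Matrix (Fin 2) (Fin 2) F) = Matrix.scalar (Fin 2) r := by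
    intro s hs
    obtain ⟨r, hr, e⟩ := Matrix.SpecialLinearGroup.mem_center_iff.mp ((QuotientGroup.eq_one_iff s).mp hs)
    exact ⟨r, by rwa [Fintype.card_fin] at hr, e.symm⟩
  -- orders of the generators
  have hpow : ∀ k : ℕ, (g ^ k).1 0 0 = c ^ k ∧ (g ^ k).1 1 1 = A ^ k ∧ (g ^ k).1 1 0 = 0 := fun k => by
    induction k with
    | zero => simp
    | succ k ih =>
      rw [pow_succ, Matrix.SpecialLinearGroup.coe_mul, hg]
      simp only [Matrix.mul_apply, Fin.sum_univ_two, ih.1, ih.2.1, ih.2.2]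
      simp [pow_succ]
  have hN : ∀ k : ℕ, (QuotientGroup.mk g : PSL2 F) ^ k = 1 → (q - 1) ∣ 2 * k := by
    intro k hk
    obtain ⟨r, -, e⟩ := hctr (g ^ k) (by simpa using hk)
    have e0 := congrArg (fun M : Matrix (Fin 2) (Fin 2) F => M 0 0) e
    have e1 := congrArg (fun M : Matrix (Fin 2) (Fin 2) F => M 1 1) e
    simp [Matrix.scalar, (hpow k).1, (hpow k).2.1] at e0 e1
    rw [← hord]
    refine orderOf_dvd_of_pow_eq_one ?_
    rw [two_mul, pow_add]
    nth_rewrite 2 [e0]
    rw [← e1, ← mul_pow, hcA, one_pow]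
  have hswap : ∀ s : SL(2, F), (QuotientGroup.mk (swap2 s) : PSL2 F) = 1 → (QuotientGroup.mk s : PSL2 F) = 1 := by
    intro s hs
    obtain ⟨r, hr, e⟩ := hctr _ hs
    refine (QuotientGroup.eq_one_iff s).mpr (Matrix.SpecialLinearGroup.mem_center_iff.mpr ⟨r, by simpa using hr, ?_⟩)
    have e00 := congrArg (fun M : Matrix (Fin 2) (Fin 2) F => M 0 0) e
    have e01 := congrArg (fun M : Matrix (Fin 2) (Fin 2) F => M 0 1) e
    have e10 := congrArg (fun M : Matrix (Fin 2) (Fin 2) F => M 1 0) e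
    have e11 := congrArg (fun M : Matrix (Fin 2) (Fin 2) F => M 1 1) e
    simp [Matrix.scalar] at e00 e01 e10 e11
    ext i j
    fin_cases i <;> fin_cases j <;> simp [Matrix.scalar, e00, e01, e10, e11]
  set x : H := ⟨QuotientGroup.mk g, hmem g hgK⟩
  set y : H := ⟨QuotientGroup.mk (swap2 g), hmem _ hgK'⟩
  have hqd : ∀ k : ℕ, 0 < k → (q - 1) ∣ 2 * k → q - 1 ≤ 2 * k := fun k hk h => Nat.le_of_dvd (by omega) h
  have hoX : (q - 1) ∣ 2 * orderOf x := hN _ (by
    rw [← Subgroup.orderOf_coe]; exact pow_orderOf_eq_one _)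
  have hoY : (q - 1) ∣ 2 * orderOf y := hN _ (by
    rw [← Subgroup.orderOf_coe]
    have := pow_orderOf_eq_one (QuotientGroup.mk (swap2 g) : PSL2 F)
    rw [← QuotientGroup.mk_pow, ← map_pow] at this
    rw [← QuotientGroup.mk_pow]
    exact hswap _ this)
  have h3 : ∀ k : ℕ, 0 < k → (q - 1) ∣ 2 * k → 3 ≤ k ∨ q = 5 := by
    intro k hk h
    have := hqd k hk h
    by_contra hcon
    push Not at hcon
    obtain ⟨h1, h2⟩ := hcon
    obtain ⟨l, hl⟩ := h
    rcases (show q = 4 by omega) with h4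
    rw [h4] at hl
    omega
  have hq5 : q ≠ 5 := by
    intro h5
    have hd : p ∣ 5 := by rw [← h5, hm]; exact dvd_pow_self p m.ne_zero
    exact hprime (by rw [h5, (Nat.prime_dvd_prime_iff_eq hpr (by norm_num)).mp hd])
  have hox : 3 ≤ orderOf x := (h3 _ (orderOf_pos x) hoX).resolve_right hq5
  have hoy : 3 ≤ orderOf y := (h3 _ (orderOf_pos y) hoY).resolve_right hq5
  have hnc : x * y ≠ y * x := by
    intro e
    have e' : (QuotientGroup.mk (g * swap2 g) : PSL2 F) = QuotientGroup.mk (swap2 g * g) := congrArg Subtype.val e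
    rcases mk_eq_mk_iff.mp e' with h | h
    · have := congrArg (fun s : SL(2, F) => s.1 0 0) h
      simp [Matrix.mul_apply, Fin.sum_univ_two, hg] at this
      have h0 : A * A = 0 := by linear_combination this
      exact hA0 (mul_self_eq_zero.mp h0)
    · have h00 := congrArg (fun s : SL(2, F) => s.1 0 0) h
      have h01 := congrArg (fun s : SL(2, F) => s.1 0 1) h
      simp [Matrix.mul_apply, Fin.sum_univ_two, hg] at h00 h01
      exact one_ne_zero (α := F) (by linear_combination h00 - h01 - hcA)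
  have fix0 : ¬ ∃ t : PSL2 F, ∀ h ∈ H, (t * h * t⁻¹) • (∞ : OnePoint F) = ∞ := by
    rintro ⟨t, ht⟩
    set v := t⁻¹ • (∞ : OnePoint F)
    have hv : ∀ s ∈ K, (QuotientGroup.mk s : PSL2 F) • v = v := fun s hs => by
      have := congrArg (fun z => t⁻¹ • z) (ht _ (hmem s hs))
      simpa [mul_smul, v] using this
    have h1 := hv g hgK
    have h2 := hv (swap2 g) hgK'
    rw [mk_smul] at h1 h2
    rcases OnePoint.ne_infty_iff_exists.mp (fun e : v = ∞ => by
      rw [e, PLocalB.smul_infty_iff] at h2; simp [hg] at h2; exact hA0 h2) with ⟨z, hz⟩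
    rw [← hz, PLocalB.smul_coe_eq] at h1 h2
    simp [hg00, hg01, hg10, hg11, hA0] at h1 h2
    split_ifs at h2 with h0
    · exact absurd h2 (OnePoint.infty_ne_coe z)
    rw [OnePoint.coe_eq_coe, div_eq_iff h0] at h2
    rw [div_eq_iff hA0] at h1
    rcases mul_eq_zero.mp (show z * (A * z + c - A) = 0 by linear_combination -h2) with e | e
    · rw [e] at h1; exact hA0 (by linear_combination h1)
    · have hz1 : z = 1 - c ^ 2 := by
        linear_combination c * e - z * hcA + hcA
      have hz2 : z * (1 - c ^ 2) = 1 := by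
        linear_combination (-c) * h1 - (z - 1) * hcA
      rw [hz1] at hz2
      rcases mul_eq_zero.mp (show c ^ 2 * (c ^ 2 - 2) = 0 by linear_combination hz2) with e' | e'
      · exact pow_ne_zero 2 hc0 e'
      · exact hc2 (sub_eq_zero.mp e')
  -- the product in the two small cases
  set z : H := x * y
  have hM : ((g * swap2 g : SL(2, F)) : Matrix (Fin 2) (Fin 2) F) = !![1 + A * A, 1; A * A, 1] := by
    ext i j
    fin_cases i <;> fin_cases j <;> simp [Matrix.mul_apply, Fin.sum_univ_two, hg, hcA, mul_comm A c]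
  have h5 : ∀ r : F, r ^ 2 = 1 → (2 + A * A) ^ 4 - 3 * (2 + A * A) ^ 2 + 1 = 0 →
      (2 + A * A) ^ 3 - 2 * (2 + A * A) = r → orderOf z = 5 := by
    intro r hr e1 e2
    haveI : Fact (Nat.Prime 5) := ⟨by norm_num⟩
    refine orderOf_eq_prime (Subtype.ext ?_) (fun e => ?_)
    · show ((QuotientGroup.mk g : PSL2 F) * QuotientGroup.mk (swap2 g)) ^ 5 = 1
      rw [← QuotientGroup.mk_mul, ← QuotientGroup.mk_pow, QuotientGroup.eq_one_iff]
      refine Matrix.SpecialLinearGroup.mem_center_iff.mpr ⟨-r, by simpa using hr, ?_⟩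
      rw [Matrix.SpecialLinearGroup.coe_pow]
      set M : Matrix (Fin 2) (Fin 2) F := ((g * swap2 g : SL(2, F)) : Matrix (Fin 2) (Fin 2) F)
      rw [show M ^ 5 = M * M * M * M * M by simp [pow_succ, mul_assoc],
        pow_five_of_trace M (2 + A * A) (by rw [hM]; simp) (by rw [hM]; simp; ring), e1, e2, zero_smul,
        zero_sub, ← neg_smul]
      ext i j
      fin_cases i <;> fin_cases j <;> simp [Matrix.scalar]
    · obtain ⟨r', -, e'⟩ := hctr _ (show (QuotientGroup.mk (g * swap2 g) : PSL2 F) = 1 from congrArg Subtype.val e)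
      have := congrArg (fun M : Matrix (Fin 2) (Fin 2) F => M 0 1) e'
      rw [hM] at this
      simp [Matrix.scalar] at this
  have hAord : ∀ k, c ^ k = 1 → A ^ k = 1 := fun k h => by
    have := congrArg (· ^ k) hcA
    simp only [mul_pow, h, one_mul, one_pow] at this
    exact this
  have hz4 : q = 4 → orderOf z = 5 := fun h4 => by
    haveI : CharP F 2 := by
      have : p = 2 := by
        have hd : p ∣ 2 * 2 := by
          rw [show 2 * 2 = 4 by rfl, ← h4, hm]; exact dvd_pow_self p m.ne_zero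
        rcases hpr.dvd_mul.mp hd with h' | h' <;> exact (Nat.prime_dvd_prime_iff_eq hpr Nat.prime_two).mp h'
      exact this ▸ hchar
    have h2 : (2 : F) = 0 := CharTwo.two_eq_zero
    have a3 : A ^ 3 = 1 := hAord 3 (by
      have e := pow_orderOf_eq_one c
      rw [show orderOf c = 3 by rw [hord, h4]] at e
      exact e)
    have a2 : A ^ 2 + A + 1 = 0 := by
      have hne : A - 1 ≠ 0 := by
        rw [sub_ne_zero]
        intro e
        rw [e, mul_one] at hcA
        rw [hcA, orderOf_one] at hord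
        omega
      exact (mul_eq_zero.mp (show (A - 1) * (A ^ 2 + A + 1) = 0 by linear_combination a3)).resolve_left hne
    refine h5 1 (one_pow 2) ?_ ?_
    · linear_combination (A ^ 5 + A ^ 2 + A) * a3 + a2 + (4 * A ^ 6 + 10 * A ^ 4 + 10 * A ^ 2 + 2) * h2
    · linear_combination (A ^ 3 + 1) * a3 + (3 * A ^ 4 + 5 * A ^ 2 + 2) * h2
  have hz9 : q = 9 → orderOf z = 5 := fun h9 => by
    haveI : CharP F 3 := by
      have : p = 3 := by
        have hd : p ∣ 3 * 3 := by
          rw [show 3 * 3 = 9 by rfl, ← h9, hm]; exact dvd_pow_self p m.ne_zero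
        rcases hpr.dvd_mul.mp hd with h' | h' <;> exact (Nat.prime_dvd_prime_iff_eq hpr Nat.prime_three).mp h'
      exact this ▸ hchar
    have h3 : (3 : F) = 0 := by exact_mod_cast CharP.cast_eq_zero F 3
    have c4 : c ^ 4 = -1 := by
      have h8 : (c ^ 4) ^ 2 = 1 := by
        rw [← pow_mul, show 4 * 2 = orderOf c by rw [hord, h9]]; exact pow_orderOf_eq_one c
      rcases sq_eq_one_iff.mp h8 with h | h
      · exact absurd (Nat.le_of_dvd (by norm_num) (orderOf_dvd_of_pow_eq_one h)) (by rw [hord, h9]; norm_num)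
      · exact h
    have a4 : A ^ 4 = -1 := by
      have e : c ^ 4 * A ^ 4 = 1 := by rw [← mul_pow, hcA, one_pow]
      rw [c4] at e
      linear_combination -e
    refine h5 1 (one_pow 2) ?_ ?_
    · linear_combination (A ^ 4 + 8 * A ^ 2 + 20) * a4 + (4 * A ^ 2 - 5) * h3
    · linear_combination (A ^ 2 + 6) * a4 + (3 * A ^ 2 - 1) * h3
  have two_lt : ∀ k : ℕ, 0 < k → (q - 1) ∣ 2 * k → q ≠ 4 → q ≠ 9 → 6 ≤ k := by
    intro k hk h n4 n9
    have h1 := hqd k hk h
    by_contra hlt
    obtain ⟨l, hl⟩ := h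
    have hq11 : q ≤ 11 := by omega
    rw [hm] at hq11 n4 n9 hq4 hq5 hl
    have hm2 : 2 ≤ (m : ℕ) := by
      have := m.pos
      by_contra hh
      have e : (m : ℕ) = 1 := by omega
      exact hprime (by rw [hm, e, pow_one])
    have hm3 : (m : ℕ) ≤ 3 := by
      by_contra hh
      have := Nat.pow_le_pow_right hpr.pos (show 4 ≤ (m : ℕ) by omega)
      have := Nat.pow_le_pow_left hpr.two_le 4
      omega
    have hp3 : p ≤ 3 := by
      by_contra hh
      have := Nat.pow_le_pow_right hpr.pos hm2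
      have := Nat.pow_le_pow_left (show 4 ≤ p by omega) 2
      omega
    have := hpr.two_le
    rcases (show p = 2 ∨ p = 3 by omega) with rfl | rfl <;>
      rcases (show (m : ℕ) = 2 ∨ (m : ℕ) = 3 by omega) with e | e <;> rw [e] at hl n4 n9 hq11 <;> norm_num at *
    omega
  have hox9 : q = 9 → 4 ∣ orderOf x := fun h9 => by
    rw [h9] at hoX
    obtain ⟨l, hl⟩ := hoX
    exact ⟨l, by omega⟩
  have hHtop : H = ⊤ := by
    have hne : ∀ h : H, orderOf h = orderOf (h : PSL2 F) := fun h => (Subgroup.orderOf_coe h).symm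
    rcases kind' p H with ⟨k, -, hcyc, -⟩ | hb | ⟨n, -, -, ⟨iso⟩⟩ | h | h | h | ⟨T, hT⟩
    · exact absurd (hcyc.commGroup.mul_comm x y) hnc
    · exact absurd hb fix0
    · refine absurd ?_ hnc
      apply iso.injective
      rw [map_mul, map_mul]
      exact commute_of_dihedral_orders _ _ (by rwa [iso.orderOf_eq]) (by rwa [iso.orderOf_eq])
    · exfalso
      by_cases hq' : q = 4 ∨ q = 9
      · have hz' : orderOf z = 5 := hq'.elim hz4 hz9
        rcases orderOf_A4 h z.2 with e | e <;> rw [← hne, hz'] at e <;> norm_num at e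
      · push Not at hq'
        have := two_lt _ (orderOf_pos x) hoX hq'.1 hq'.2
        rcases orderOf_A4 h x.2 with e | e <;> rw [← hne] at e <;> have := Nat.le_of_dvd (by norm_num) e <;> omega
    · exfalso
      by_cases hq' : q = 4 ∨ q = 9
      · have hz' : orderOf z = 5 := hq'.elim hz4 hz9
        rcases orderOf_S4 h z.2 with e | e <;> rw [← hne, hz'] at e <;> norm_num at e
      · push Not at hq'
        have := two_lt _ (orderOf_pos x) hoX hq'.1 hq'.2
        rcases orderOf_S4 h x.2 with e | e <;> rw [← hne] at e <;> have := Nat.le_of_dvd (by norm_num) e <;> omega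
    · by_cases h4 : q = 4
      · obtain ⟨e⟩ := h
        refine Subgroup.eq_top_of_card_eq H ?_
        rw [Nat.card_congr e.toEquiv, card_A5]
        have hG := LinearGroup.gcd_mul_card_PSL_two (F := F)
        rw [Nat.card_eq_fintype_card (α := F), ← hq, h4] at hG
        norm_num at hG
        rw [Nat.card_eq_fintype_card]; exact hG.symm
      exfalso
      by_cases h9 : q = 9
      · obtain ⟨l, hl⟩ := hox9 h9
        rcases orderOf_A5 h x.2 with e | e | e <;> rw [← hne, hl] at e <;>
          have := (dvd_mul_right 4 l).trans e <;> norm_num at this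
      · have := two_lt _ (orderOf_pos x) hoX h4 h9
        rcases orderOf_A5 h x.2 with e | e | e <;> rw [← hne] at e <;> have := Nat.le_of_dvd (by norm_num) e <;> omega
    · by_contra hne'
      obtain ⟨k, hk, hpow', hsq⟩ := big_proper hT hne'
      rw [← hq] at hpow' hsq
      have hbound := hT.2.2.2.1
      have h1 := hbound _ x.2
      rw [← hne] at h1
      have := hqd _ (orderOf_pos x) hoX
      have hT3 := hT.1
      have : Nat.card T ≤ 3 := by
        by_contra hlt
        have : 4 * Nat.card T ≤ Nat.card T ^ 2 := by rw [pow_two]; exact Nat.mul_le_mul_right _ (by omega)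
        omega
      have e3 : Nat.card T = 3 := by omega
      rw [e3] at h1 hsq hpow' hbound
      have h9 : q = 9 := by
        rcases (show k = 2 ∨ 3 ≤ k by omega) with rfl | h'
        · omega
        · have := Nat.pow_le_pow_right (show 3 > 0 by norm_num) h'; omega
      have h2 := hbound _ z.2
      rw [← hne, hz9 h9] at h2
      omega
  -- back to `SL₂`
  have hsq : ∀ s : SL(2, F), ∃ k ∈ K, ∃ r : F, r ^ 2 = 1 ∧ ((k⁻¹ * s : SL(2, F)) : Matrix (Fin 2) (Fin 2) F) = Matrix.scalar (Fin 2) r := by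
    intro s
    obtain ⟨k, hk, e⟩ : (QuotientGroup.mk s : PSL2 F) ∈ H := hHtop ▸ Subgroup.mem_top _
    refine ⟨k, hk, hctr _ ?_⟩
    rw [QuotientGroup.mk_mul, QuotientGroup.mk_inv, inv_mul_eq_one]
    exact e
  have hsqr : ∀ s : SL(2, F), s * s ∈ K := fun s => by
    obtain ⟨k, hk, r, hr, e⟩ := hsq s
    set w := k⁻¹ * s with hw
    have hs : s = k * w := by rw [hw]; group
    have hc : Commute k w := by
      apply Subtype.ext
      show (k : Matrix (Fin 2) (Fin 2) F) * (w : Matrix (Fin 2) (Fin 2) F) = (w : Matrix (Fin 2) (Fin 2) F) * (k : Matrix (Fin 2) (Fin 2) F)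
      rw [e]
      exact (Matrix.scalar_commute r (fun r' => mul_comm r r') _).eq.symm
    have hww : w * w = 1 := by
      apply Subtype.ext
      rw [Matrix.SpecialLinearGroup.coe_mul, e, ← map_mul, ← pow_two, hr, map_one]; rfl
    rw [hs, show k * w * (k * w) = k * (w * k) * w by group, ← hc.eq, show k * (k * w) * w = k * k * (w * w) by group,
      hww, mul_one]
    exact mul_mem hk hk
  by_cases h2 : (2 : F) = 0
  · rw [eq_top_iff]
    intro s _
    obtain ⟨k, hk, r, hr, e⟩ := hsq s
    have hr1 : r = 1 := by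
      have : (r - 1) * (r - 1) = 0 := by linear_combination hr + (1 - r) * h2
      exact sub_eq_zero.mp (mul_self_eq_zero.mp this)
    have : k⁻¹ * s = 1 := Subtype.ext (by rw [e, hr1, map_one]; rfl)
    rwa [inv_mul_eq_one.mp this] at hk
  · refine gen K (fun x => ?_) (fun x => ?_)
    · have := hsqr (mU (x / 2))
      rwa [mU_mul, show x / 2 + x / 2 = x by field_simp; ring] at this
    · have := hsqr (mL (x / 2))
      rwa [mL_mul, show x / 2 + x / 2 = x by field_simp; ring] at this

end Cfsg.Agent.KSG55.SLn
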