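import Cfsg.Agent.KSG55.SLn.Core
import Cfsg.Agent.KSG55.SLn.SwapPair
import Cfsg.Agent.KSG55.Pres.HomOf

set_option autoImplicit false

/-! Presentations of `SL_n` from those of `SL₃` and the alternating group. -/

namespace Cfsg.Agent.KSG55.SLn

open Matrix Equiv Cfsg.Agent.KSG55.Pres Cfsg.Agent.KSG55.Lin

variable {F : Type*} [Field F] {n : ℕ}

theorem hom_ext_UL {G : Type*} [Group G] {f g : Matrix.SpecialLinearGroup (Fin 2) F →* G}
    (hu : ∀ t, f (mU t) = g (mU t)) (hl : ∀ t, f (mL t) = g (mL t)) : f = g := by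
  have hT : mT ∈ f.eqLocus g := by
    show f mT = g mT
    rw [mT_eq, map_mul, map_mul, map_mul, map_mul, hu, hl]
  exact MonoidHom.ext fun M => (Subgroup.eq_top_iff' _).mp (eq_top_of_mem hT hu) M

theorem perm_corner (hn : 4 ≤ n) (τ : alternatingGroup (Fin n)) (a b : Fin 3) (hab : a ≠ b)
    {i j : Fin n} (ha : (τ : Perm (Fin n)) (Glue.e3 hn a) = i) (hb : (τ : Perm (Fin n)) (Glue.e3 hn b) = j)
    (hij : i ≠ j) (t : F) :
    permM τ * emb3 (by omega) (tv a b t) * (permM τ)⁻¹ = SpecialLinearGroup.transvection hij t := by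
  rw [tv_eq hab, emb3_transvection, permM_conj]
  subst ha hb
  rfl

/-- The model. -/
def modelGlue (hn : 4 ≤ n) : Glue F hn (Matrix.SpecialLinearGroup (Fin n) F) where
  θ := emb3 (by omega)
  π := permM
  compat := emb3_mW hn
  cent τ h0 h1 M := by
    have hne : Glue.e3 hn 0 ≠ Glue.e3 hn 1 := fun e => absurd (Fin.castLE_injective _ e) (by decide)
    have e : (MulAut.conj (permM (F := F) τ)).toMonoidHom.comp ((emb3 (show 3 ≤ n by omega)).comp eM) =
        (emb3 (show 3 ≤ n by omega)).comp eM := hom_ext_UL (fun t => by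
      show permM τ * emb3 _ (eM (mU t)) * (permM τ)⁻¹ = emb3 _ (eM (mU t))
      rw [← tv01, perm_corner hn τ 0 1 (by decide) (i := Glue.e3 hn 0) (j := Glue.e3 hn 1) h0 h1 hne,
        tv_eq (show (0 : Fin 3) ≠ 1 by decide), emb3_transvection]) (fun t => by
      show permM τ * emb3 _ (eM (mL t)) * (permM τ)⁻¹ = emb3 _ (eM (mL t))
      rw [← tv10, perm_corner hn τ 1 0 (by decide) (i := Glue.e3 hn 1) (j := Glue.e3 hn 0) h1 h0 hne.symm,
        tv_eq (show (1 : Fin 3) ≠ 0 by decide), emb3_transvection])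
    exact mul_inv_eq_iff_eq_mul.mp (DFunLike.congr_fun e M)
  flip τ hτ M := by
    have h0 : (τ : Perm (Fin n)) (Glue.e3 hn 0) = Glue.e3 hn 1 := by
      rw [hτ, Perm.mul_apply, swap_apply_of_ne_of_ne (a := Glue.o2 hn) (b := Glue.o3 hn) (by simp [pt3, Fin.ext_iff]) (by simp [pt3, Fin.ext_iff])]
      exact swap_apply_left _ _
    have h1 : (τ : Perm (Fin n)) (Glue.e3 hn 1) = Glue.e3 hn 0 := by
      rw [hτ, Perm.mul_apply, swap_apply_of_ne_of_ne (a := Glue.o2 hn) (b := Glue.o3 hn) (by simp [pt3, Fin.ext_iff]) (by simp [pt3, Fin.ext_iff])]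
      exact swap_apply_right _ _
    have hne : Glue.e3 hn 0 ≠ Glue.e3 hn 1 := fun e => absurd (Fin.castLE_injective _ e) (by decide)
    have e : (MulAut.conj (permM (F := F) τ)).toMonoidHom.comp ((emb3 (show 3 ≤ n by omega)).comp eM) =
        ((emb3 (show 3 ≤ n by omega)).comp eM).comp swap2 := hom_ext_UL (fun t => by
      show permM τ * emb3 _ (eM (mU t)) * (permM τ)⁻¹ = emb3 _ (eM (swap2 (mU t)))
      rw [swap2_mU, ← tv01, ← tv10, perm_corner hn τ 0 1 (by decide) h0 h1 hne.symm,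
        tv_eq (show (1 : Fin 3) ≠ 0 by decide), emb3_transvection]) (fun t => by
      show permM τ * emb3 _ (eM (mL t)) * (permM τ)⁻¹ = emb3 _ (eM (swap2 (mL t)))
      rw [swap2_mL, ← tv01, ← tv10, perm_corner hn τ 1 0 (by decide) h1 h0 hne,
        tv_eq (show (0 : Fin 3) ≠ 1 by decide), emb3_transvection])
    exact DFunLike.congr_fun e M

theorem modelGlue_X (hn : 4 ≤ n) {i j : Fin n} (h : i ≠ j) (t : F) :
    (modelGlue (F := F) hn).X i j t = SpecialLinearGroup.transvection h t := by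
  obtain ⟨p0, p1⟩ := (Glue.exists_even_pair hn (i, j)).choose_spec h
  show permM (Glue.pick hn i j) * emb3 _ (eM (mU t)) * (permM (Glue.pick hn i j))⁻¹ = _
  rw [← tv01]
  exact perm_corner hn _ 0 1 (by decide) p0 p1 h t

variable [Fintype F]

/-- The glued presentation. -/
theorem presOn_glue (hn : 4 ≤ n) {a : Fˣ} (ha : ∀ x : Fˣ, x ∈ Subgroup.zpowers a) {k r : ℕ}
    (gensA : Fin (k + 1) → alternatingGroup (Fin n)) (hA : PresOn gensA r) (h0 : gensA 0 = w0 hn)
    (αs : List (alternatingGroup (Fin n)))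
    (hfix : ∀ α ∈ αs, (α : Perm (Fin n)) (Glue.o0 hn) = Glue.o0 hn ∧ (α : Perm (Fin n)) (Glue.o1 hn) = Glue.o1 hn)
    (hgen : ∀ τ : alternatingGroup (Fin n), (τ : Perm (Fin n)) (Glue.o0 hn) = Glue.o0 hn →
      (τ : Perm (Fin n)) (Glue.o1 hn) = Glue.o1 hn →
      τ ∈ Subgroup.closure ({x | x ∈ αs} ∪ {x | ∃ y ∈ αs, x = Glue.beta hn * y * (Glue.beta hn)⁻¹})) :
    PresOn (Fin.append (fun i => emb3 (show 3 ≤ n by omega) (gens3 a i)) (fun i => permM (F := F) (gensA i.succ)))
      (13 + r + 2 * αs.length + 2) := by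
  classical
  set M := modelGlue (F := F) hn with hM
  set gensN := Fin.append (fun i => emb3 (show 3 ≤ n by omega) (gens3 a i)) (fun i => permM (F := F) (gensA i.succ))
    with hgensN
  obtain ⟨L, hL, hLrel, hLinj⟩ := exists_list_SL3 ha
  obtain ⟨LA, hLA, hLArel, hLAtop, hLAhom⟩ := hA.exists_hom
  obtain ⟨g, hg⟩ := exists_swap_pair ha
  have hw3 : ∀ x : Matrix.SpecialLinearGroup (Fin 3) F, ∃ W, FreeGroup.lift (gens3 a) W = x := fun x => by
    rw [← MonoidHom.mem_range, FreeGroup.range_lift_eq_closure, gens3_top ha]; trivial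
  choose W3 hW3 using hw3
  have hwA : ∀ x : alternatingGroup (Fin n), ∃ W, FreeGroup.lift gensA W = x := fun x => by
    rw [← MonoidHom.mem_range, FreeGroup.range_lift_eq_closure, hLAtop]; trivial
  choose WA hWA using hwA
  let c3 : FreeGroup (Fin 4) →* FreeGroup (Fin (4 + k)) := FreeGroup.map (Fin.castAdd k)
  let eA : Fin (k + 1) → FreeGroup (Fin (4 + k)) :=
    Fin.cons (FreeGroup.of (Fin.castAdd k 3)) (fun i => FreeGroup.of (Fin.natAdd 4 i))
  let cA : FreeGroup (Fin (k + 1)) →* FreeGroup (Fin (4 + k)) := FreeGroup.lift eA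
  let z3 : Matrix.SpecialLinearGroup (Fin 3) F → FreeGroup (Fin (4 + k)) := fun x => c3 (W3 x)
  let zA : alternatingGroup (Fin n) → FreeGroup (Fin (4 + k)) := fun x => cA (WA x)
  let σ23 := Glue.pick hn (Glue.o2 hn) (Glue.o3 hn)
  let y01 : FreeGroup (Fin (4 + k)) := z3 (eM (mU 1))
  let y23 : FreeGroup (Fin (4 + k)) := zA σ23 * z3 (eM (mU 1)) * (zA σ23)⁻¹
  let Rc : alternatingGroup (Fin n) → Matrix.SpecialLinearGroup (Fin 2) F → FreeGroup (Fin (4 + k)) := fun α m =>
    zA α * z3 (eM m) * (z3 (eM m) * zA α)⁻¹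
  let rels := L.map c3 ++ LA.map cA ++ αs.map (fun α => Rc α g) ++ αs.map (fun α => Rc α (swap2 g)) ++
    [zA (Glue.beta hn) * z3 (eM g) * (zA (Glue.beta hn))⁻¹ * (z3 (eM (swap2 g)))⁻¹, y01 * y23 * (y23 * y01)⁻¹]
  have hlen : rels.length ≤ 13 + r + 2 * αs.length + 2 := by
    simp only [rels, List.length_append, List.length_map, List.length_cons, List.length_nil]
    omega
  -- images of the words
  have hk3 : ∀ i : Fin 4, gensN (Fin.castAdd k i) = M.θ (gens3 a i) := fun i => by
    rw [hgensN, Fin.append_left]; rfl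
  have hkA : ∀ i, FreeGroup.lift gensN (eA i) = M.π (gensA i) := fun i => by
    induction i using Fin.cases with
    | zero =>
      show FreeGroup.lift gensN (FreeGroup.of (Fin.castAdd k 3)) = _
      rw [FreeGroup.lift_apply_of, hk3, h0]
      exact M.compat
    | succ i =>
      show FreeGroup.lift gensN (FreeGroup.of (Fin.natAdd 4 i)) = _
      rw [FreeGroup.lift_apply_of, hgensN, Fin.append_right]; rfl
  have m3 : ∀ w, FreeGroup.lift gensN (c3 w) = M.θ (FreeGroup.lift (gens3 a) w) := fun w =>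
    DFunLike.congr_fun (FreeGroup.ext_hom ((FreeGroup.lift gensN).comp c3) (M.θ.comp (FreeGroup.lift (gens3 a)))
      fun i => by simp [c3, hk3]) w
  have mA : ∀ w, FreeGroup.lift gensN (cA w) = M.π (FreeGroup.lift gensA w) := fun w =>
    DFunLike.congr_fun (FreeGroup.ext_hom ((FreeGroup.lift gensN).comp cA) (M.π.comp (FreeGroup.lift gensA))
      fun i => by simp [cA, hkA]) w
  refine presOn_of_inj gensN rels hlen ?_ ?_ ?_
  · intro w hw
    have n01 : Glue.o0 hn ≠ Glue.o1 hn := by simp [Fin.ext_iff]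
    have n23 : Glue.o2 hn ≠ Glue.o3 hn := by simp [Fin.ext_iff]
    have e01 : FreeGroup.lift gensN y01 = M.X (Glue.o0 hn) (Glue.o1 hn) 1 := by
      simp only [y01, z3, m3, hW3]
      rw [← M.base 1 n01 rfl rfl, map_one, one_mul, inv_one, mul_one]
    have e23 : FreeGroup.lift gensN y23 = M.X (Glue.o2 hn) (Glue.o3 hn) 1 := by
      simp only [y23, zA, z3, map_mul, map_inv, m3, mA, hW3, hWA]; rfl
    simp only [rels, List.mem_append, List.mem_map, List.mem_cons, List.not_mem_nil, or_false] at hw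
    rcases hw with (((⟨w, hw, rfl⟩ | ⟨w, hw, rfl⟩) | ⟨α, hα, rfl⟩) | ⟨α, hα, rfl⟩) | rfl | rfl
    · rw [m3, hLrel w (List.mem_cons_of_mem _ hw), map_one]
    · rw [mA, hLArel w hw, map_one]
    · simp only [Rc, zA, z3, map_mul, map_inv, m3, mA, hW3, hWA, mul_inv_eq_one]
      exact (M.cent α (hfix α hα).1 (hfix α hα).2 _).eq
    · simp only [Rc, zA, z3, map_mul, map_inv, m3, mA, hW3, hWA, mul_inv_eq_one]
      exact (M.cent α (hfix α hα).1 (hfix α hα).2 _).eq
    · simp only [zA, z3, map_mul, map_inv, m3, mA, hW3, hWA, mul_inv_eq_one]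
      exact M.flip _ rfl g
    · simp only [map_mul, map_inv, e01, e23, mul_inv_eq_one, hM, modelGlue_X hn n01, modelGlue_X hn n23]
      apply Subtype.ext
      simp only [Matrix.SpecialLinearGroup.coe_mul, SpecialLinearGroup.transvection_coe, Matrix.transvection]
      simp only [add_mul, mul_add, one_mul, mul_one,
        Matrix.single_mul_single_of_ne _ _ _ _ (show Glue.o1 hn ≠ Glue.o2 hn by simp [Fin.ext_iff]),
        Matrix.single_mul_single_of_ne _ _ _ _ (show Glue.o3 hn ≠ Glue.o0 hn by simp [Fin.ext_iff])]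
      abel
  · refine LinearGroup.eq_top_of_transvection_mem fun i j hij c => ?_
    rw [← modelGlue_X hn hij c]
    have hA' : ∀ τ, M.π τ ∈ Subgroup.closure (Set.range gensN) := fun τ => by
      rw [← hWA τ, ← mA, ← FreeGroup.range_lift_eq_closure]; exact ⟨_, rfl⟩
    have h3' : ∀ x, M.θ x ∈ Subgroup.closure (Set.range gensN) := fun x => by
      rw [← hW3 x, ← m3, ← FreeGroup.range_lift_eq_closure]; exact ⟨_, rfl⟩
    exact mul_mem (mul_mem (hA' _) (h3' _)) (inv_mem (hA' _))
  intro H _ U φ hU hr hφ x hx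
  have hrL : ∀ w ∈ L, FreeGroup.lift U (c3 w) = 1 := fun w hw => hr _ (by
    simp only [rels, List.mem_append, List.mem_map]
    exact Or.inl (Or.inl (Or.inl (Or.inl ⟨w, hw, rfl⟩))))
  have hrA : ∀ w ∈ LA, FreeGroup.lift U (cA w) = 1 := fun w hw => hr _ (by
    simp only [rels, List.mem_append, List.mem_map]
    exact Or.inl (Or.inl (Or.inl (Or.inr ⟨w, hw, rfl⟩))))
  set U3 : Fin 4 → H := fun i => U (Fin.castAdd k i) with hU3
  set UA : Fin (k + 1) → H := fun i => FreeGroup.lift U (eA i) with hUA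
  have c3U : ∀ w, FreeGroup.lift U (c3 w) = FreeGroup.lift U3 w := fun w =>
    DFunLike.congr_fun (FreeGroup.ext_hom ((FreeGroup.lift U).comp c3) (FreeGroup.lift U3)
      fun i => by simp [c3, hU3]) w
  have cAU : ∀ w, FreeGroup.lift U (cA w) = FreeGroup.lift UA w := fun w =>
    DFunLike.congr_fun (FreeGroup.ext_hom ((FreeGroup.lift U).comp cA) (FreeGroup.lift UA)
      fun i => by simp [cA, hUA]) w
  obtain ⟨π, hπ⟩ := hLAhom H UA fun w hw => by rw [← cAU]; exact hrA w hw
  have hW : U (Fin.castAdd k 3) = π (w0 hn) := by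
    rw [← h0, hπ]
    show _ = FreeGroup.lift U (eA 0)
    simp [eA]
  have hcube : U (Fin.castAdd k 3) ^ 3 = 1 := by
    rw [hW, ← map_pow, show w0 hn ^ 3 = 1 from Subtype.ext (cyc3_cube (by simp [pt3, Fin.ext_iff])
      (by simp [pt3, Fin.ext_iff]) (by simp [pt3, Fin.ext_iff])), map_one]
  obtain ⟨θ, hθ⟩ := hom_of_inj (gens3 a) (FreeGroup.of 3 ^ 3 :: L) hLrel (gens3_top ha)
    (fun H' _ U' φ' h1 h2 h3 => hLinj H' U' φ' h1 h2 h3) H U3 (fun w hw => by
      rcases List.mem_cons.mp hw with rfl | hw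
      · simpa [hU3] using hcube
      · rw [← c3U]; exact hrL w hw)
  have zA' : ∀ τ, FreeGroup.lift U (zA τ) = π τ := fun τ => by
    simp only [zA]
    conv_rhs => rw [← hWA τ]
    rw [cAU]
    exact (DFunLike.congr_fun (FreeGroup.ext_hom (π.comp (FreeGroup.lift gensA)) (FreeGroup.lift UA)
      fun i => by simp [hπ]) _).symm
  have z3' : ∀ m, FreeGroup.lift U (z3 m) = θ m := fun m => by
    simp only [z3]
    conv_rhs => rw [← hW3 m]
    rw [c3U]
    exact (DFunLike.congr_fun (FreeGroup.ext_hom (θ.comp (FreeGroup.lift (gens3 a))) (FreeGroup.lift U3)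
      fun i => by simp [hθ]) _).symm
  -- the flip
  set β := Glue.beta hn with hβd
  have hflip : ∀ m, π β * θ (eM m) * (π β)⁻¹ = θ (eM (swap2 m)) := by
    have h := hr (zA β * z3 (eM g) * (zA β)⁻¹ * (z3 (eM (swap2 g)))⁻¹) (List.mem_append_right _ (by simp [β]))
    simp only [map_mul, map_inv, zA', z3', mul_inv_eq_one] at h
    have hb : β * β = 1 := by
      apply Subtype.ext
      show Equiv.swap _ _ * Equiv.swap _ _ * (Equiv.swap _ _ * Equiv.swap _ _) = 1
      have hc : Commute (Equiv.swap (Glue.o2 hn) (Glue.o3 hn)) (Equiv.swap (Glue.o0 hn) (Glue.o1 hn)) := by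
        refine Perm.Disjoint.commute fun x => ?_
        by_cases hx : x = Glue.o2 hn ∨ x = Glue.o3 hn
        · right; rcases hx with rfl | rfl <;> apply swap_apply_of_ne_of_ne <;> simp [Fin.ext_iff]
        · left; push Not at hx; exact swap_apply_of_ne_of_ne hx.1 hx.2
      rw [← mul_assoc, mul_assoc (Equiv.swap (Glue.o0 hn) (Glue.o1 hn)), hc.eq, ← mul_assoc, Equiv.swap_mul_self, one_mul,
        Equiv.swap_mul_self]
    have h' : π β * θ (eM (swap2 g)) * (π β)⁻¹ = θ (eM g) := by
      rw [← h]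
      calc π β * (π β * θ (eM g) * (π β)⁻¹) * (π β)⁻¹ = π (β * β) * θ (eM g) * (π (β * β))⁻¹ := by
            rw [map_mul]; group
        _ = _ := by rw [hb, map_one, one_mul, inv_one, mul_one]
    have e : (MulAut.conj (π β)).toMonoidHom.comp (θ.comp eM) = (θ.comp eM).comp swap2 :=
      MonoidHom.eq_of_eqOn_dense hg fun m hm => by
        rcases hm with rfl | rfl
        · exact h
        · show π β * θ (eM (swap2 g)) * (π β)⁻¹ = θ (eM (swap2 (swap2 g)))
          rw [h']
          congr 2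
    exact fun m => DFunLike.congr_fun e m
  -- centralising
  let Cι : Subgroup (alternatingGroup (Fin n)) :=
    { carrier := {τ | ∀ m, Commute (π τ) (θ (eM m))}
      one_mem' := fun m => by rw [map_one]; exact Commute.one_left _
      mul_mem' := fun hx hy m => by rw [map_mul]; exact (hx m).mul_left (hy m)
      inv_mem' := fun hx m => by rw [map_inv]; exact (hx m).inv_left }
  have hαC : ∀ α ∈ αs, α ∈ Cι := fun α hα => by
    have e : (MulAut.conj (π α)).toMonoidHom.comp (θ.comp eM) = θ.comp eM :=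
      MonoidHom.eq_of_eqOn_dense hg fun m hm => by
        have hm' : FreeGroup.lift U (Rc α m) = 1 := hr _ (by
          simp only [rels, List.mem_append, List.mem_map]
          rcases hm with rfl | rfl
          · exact Or.inl (Or.inl (Or.inr ⟨α, hα, rfl⟩))
          · exact Or.inl (Or.inr ⟨α, hα, rfl⟩))
        simp only [Rc, map_mul, map_inv, zA', z3', mul_inv_eq_one] at hm'
        show π α * θ (eM m) * (π α)⁻¹ = θ (eM m)
        rw [hm', mul_inv_cancel_right]
    exact fun m => mul_inv_eq_iff_eq_mul.mp (DFunLike.congr_fun e m)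
  have hCι : ∀ τ : alternatingGroup (Fin n), (τ : Perm (Fin n)) (Glue.o0 hn) = Glue.o0 hn →
      (τ : Perm (Fin n)) (Glue.o1 hn) = Glue.o1 hn → τ ∈ Cι := fun τ a0 a1 => by
    refine (Subgroup.closure_le Cι).mpr ?_ (hgen τ a0 a1)
    rintro y (hy | ⟨y, hy, rfl⟩)
    · exact hαC y hy
    · intro m
      have hs : θ (eM m) = π β * θ (eM (swap2 m)) * (π β)⁻¹ := by
        rw [hflip]
        congr 2
      rw [hs, map_mul, map_mul, map_inv]
      exact (Commute.conj_iff _).mpr (hαC y hy (swap2 m))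
  let D : Glue F hn H :=
    { θ := θ
      π := π
      compat := by
        have h3 := hθ 3
        simp only [hU3] at h3
        rw [show (gens3 a 3) = mW from rfl] at h3
        rw [h3, hW]
      cent := fun τ a0 a1 => hCι τ a0 a1
      flip := fun τ hτ m => by rw [show τ = β from Subtype.ext hτ]; exact hflip m }
  obtain ⟨p, hchar⟩ := CharP.exists F
  haveI : Fact p.Prime := ⟨CharP.char_is_prime F p⟩
  letI := ZMod.algebra F p
  have hbase : Commute (D.X (Glue.o0 hn) (Glue.o1 hn) 1) (D.X (Glue.o2 hn) (Glue.o3 hn) 1) := by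
    have h := hr (y01 * y23 * (y23 * y01)⁻¹) (by simp [rels])
    simp only [y01, y23, map_mul, map_inv, zA', z3', mul_inv_eq_one] at h
    have e01 : D.X (Glue.o0 hn) (Glue.o1 hn) 1 = θ (eM (mU 1)) := by
      rw [← D.base 1 (i := Glue.o0 hn) (j := Glue.o1 hn) (by simp [Fin.ext_iff]) rfl rfl, map_one, one_mul, inv_one, mul_one]
    rw [e01]
    exact h
  obtain ⟨R, hR⟩ := D.exists_rootSys (adjoin_sq_eq_top (p := p) ha) hbase
  -- the images
  have φθ : ∀ m, φ (θ m) = M.θ m := fun m => by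
    have : φ.comp θ = M.θ := MonoidHom.eq_of_eqOn_dense (gens3_top ha) (by
      rintro _ ⟨i, rfl⟩
      show φ (θ (gens3 a i)) = _
      rw [hθ, hU3, hφ, hk3])
    exact DFunLike.congr_fun this m
  have φπ : ∀ τ, φ (π τ) = M.π τ := fun τ => by
    have : φ.comp π = M.π := MonoidHom.eq_of_eqOn_dense hLAtop (by
      rintro _ ⟨i, rfl⟩
      show φ (π (gensA i)) = _
      rw [hπ, hUA, ← hkA]
      exact DFunLike.congr_fun (FreeGroup.ext_hom (φ.comp (FreeGroup.lift U)) (FreeGroup.lift gensN)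
        fun l => by simp [hφ]) _)
    exact DFunLike.congr_fun this τ
  have hmap : RootMap R φ := fun i j hij t => by
    rw [hR, ← modelGlue_X hn hij t]
    show φ (π _ * θ _ * (π _)⁻¹) = _
    rw [map_mul, map_mul, map_inv, φπ, φθ]
    rfl
  set N := rootGroup R (Finset.univ : Finset (Fin n))
  have hN : ∀ i j, i ≠ j → ∀ t, D.X i j t ∈ N := fun i j h t => by
    rw [← hR]; exact mem_rootGroup (Finset.mem_univ i) (Finset.mem_univ j) h t
  have hθN : ∀ m, θ m ∈ N := by
    have : N.comap θ = ⊤ := LinearGroup.eq_top_of_transvection_mem fun u v huv c => by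
      show θ _ ∈ N
      rw [← tv_eq huv]
      show D.θ _ ∈ N
      rw [D.corner huv]
      exact hN _ _ (fun e => huv (Fin.castLE_injective _ e)) c
    exact fun m => (Subgroup.eq_top_iff' _).mp this m
  have hnormN : ∀ τ, ∀ y ∈ N, π τ * y * (π τ)⁻¹ ∈ N := fun τ y hy => by
    have : N ≤ N.comap (MulAut.conj (π τ)).toMonoidHom := by
      refine (Subgroup.closure_le _).mpr ?_
      rintro _ ⟨i, -, j, -, hij, t, rfl⟩
      show π τ * R.x i j t * (π τ)⁻¹ ∈ N
      rw [hR]
      show D.π τ * D.X i j t * (D.π τ)⁻¹ ∈ N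
      rw [D.cov τ hij]
      exact hN _ _ (fun e => hij ((τ : Perm (Fin n)).injective e)) t
    exact this hy
  have hπN : ∀ τ, π τ ∈ N := by
    set P := (N.comap π).map (alternatingGroup (Fin n)).subtype with hP
    have hw : w0 hn ∈ N.comap π := by
      show π (w0 hn) ∈ N
      have := hθN mW
      rwa [show θ mW = π (w0 hn) from D.compat] at this
    have hle : altOn (Finset.univ : Finset (Fin n)) ≤ P := by
      refine altOn_le (a := Glue.e3 hn 0) (b := Glue.e3 hn 1) (by simp [pt3, Fin.ext_iff]) fun j _ hj0 hj1 => ?_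
      obtain ⟨σ, hσ⟩ := exists_perm (Glue.e3 hn) ![Glue.e3 hn 0, Glue.e3 hn 1, j] (Fin.castLE_injective _)
        (Glue.inj3 (by simp [pt3, Fin.ext_iff]) (Ne.symm hj1) (Ne.symm hj0))
      have s0 : σ (Glue.e3 hn 0) = Glue.e3 hn 0 := hσ 0
      have s1 : σ (Glue.e3 hn 1) = Glue.e3 hn 1 := hσ 1
      have s2 : σ (Glue.e3 hn 2) = j := hσ 2
      have conj : ∀ τ : alternatingGroup (Fin n), cyc3 ((τ : Perm (Fin n)) (Glue.e3 hn 0))
          ((τ : Perm (Fin n)) (Glue.e3 hn 1)) ((τ : Perm (Fin n)) (Glue.e3 hn 2)) ∈ P := fun τ => by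
        refine ⟨τ * w0 hn * τ⁻¹, ?_, ?_⟩
        · show π (τ * w0 hn * τ⁻¹) ∈ N
          rw [map_mul, map_mul, map_inv]
          exact hnormN τ _ hw
        · rw [← cyc3_conj]; rfl
      rcases Int.units_eq_one_or (Perm.sign σ) with hs | hs
      · have := conj ⟨σ, Equiv.Perm.mem_alternatingGroup.mpr hs⟩
        simpa [s0, s1, s2] using this
      · have := conj ⟨σ * Equiv.swap (Glue.e3 hn 0) (Glue.e3 hn 1), by
          rw [Equiv.Perm.mem_alternatingGroup, map_mul, hs, Perm.sign_swap (by simp [pt3, Fin.ext_iff])]; rfl⟩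
        simp only [Perm.mul_apply, swap_apply_left, swap_apply_right,
          swap_apply_of_ne_of_ne (show Glue.e3 hn 2 ≠ Glue.e3 hn 0 by simp [pt3, Fin.ext_iff])
            (show Glue.e3 hn 2 ≠ Glue.e3 hn 1 by simp [pt3, Fin.ext_iff]), s0, s1, s2] at this
        have h' := inv_mem this
        rwa [cyc3_inv (by simp [pt3, Fin.ext_iff]) (Ne.symm hj1) (Ne.symm hj0)] at h'
    intro τ
    obtain ⟨τ', h', e'⟩ := hle (show (τ : Perm (Fin n)) ∈ altOn (Finset.univ : Finset (Fin n)) from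
      ⟨Equiv.Perm.mem_alternatingGroup.mp τ.2, fun x hx => absurd (Finset.mem_univ x) hx⟩)
    rwa [show τ' = τ from Subtype.ext e'] at h'
  have htop : x ∈ N := by
    have : Subgroup.closure (Set.range U) ≤ N := by
      rw [Subgroup.closure_le]
      rintro _ ⟨i, rfl⟩
      induction i using Fin.addCases with
      | left i =>
        have := hθN (gens3 a i)
        rwa [hθ] at this
      | right i =>
        have := hπN (gensA i.succ)
        rw [hπ] at this
        simpa [hUA, eA] using this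
    rw [hU] at this
    exact this (Subgroup.mem_top x)
  exact rootGroup_inj hmap _ x htop hx

end Cfsg.Agent.KSG55.SLn
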