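import Cfsg.Agent.KSG55.Lin.SL3
import Cfsg.Agent.KSG55.SLn.Alpha

set_option autoImplicit false

/-! Permutation matrices and the corner copy of `SL₃` in `SL_n`. -/

namespace Cfsg.Agent.KSG55.SLn

open Matrix Equiv Cfsg.Agent.KSG55.Pres Cfsg.Agent.KSG55.Lin

variable {F : Type*} [Field F] {n : ℕ}

/-- The matrix of an even permutation. -/
def permFun (σ : alternatingGroup (Fin n)) : Matrix.SpecialLinearGroup (Fin n) F :=
  ⟨((σ : Perm (Fin n))⁻¹).permMatrix F, by
    rw [Matrix.det_permutation, map_inv, Equiv.Perm.mem_alternatingGroup.mp σ.2]; simp⟩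

theorem permFun_apply (σ : alternatingGroup (Fin n)) (i j : Fin n) :
    ((permFun σ : Matrix.SpecialLinearGroup (Fin n) F) : Matrix (Fin n) (Fin n) F) i j = if (σ : Perm (Fin n)) j = i then 1 else 0 := by
  show ((σ : Perm (Fin n))⁻¹).permMatrix F i j = _
  rw [Equiv.Perm.permMatrix, PEquiv.toMatrix_apply]
  simp only [Equiv.toPEquiv_apply, Option.mem_def, Option.some.injEq]
  exact if_congr (by constructor <;> intro h <;> simp [← h]) rfl rfl

/-- The permutation matrices. -/
def permM : alternatingGroup (Fin n) →* Matrix.SpecialLinearGroup (Fin n) F where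
  toFun := permFun
  map_one' := by
    apply Subtype.ext; ext i j
    simp [permFun_apply, Matrix.one_apply, eq_comm]
  map_mul' σ τ := by
    apply Subtype.ext; ext i j
    rw [Matrix.SpecialLinearGroup.coe_mul, Matrix.mul_apply, permFun_apply,
      Finset.sum_eq_single ((τ : Perm (Fin n)) j)]
    · rw [permFun_apply, permFun_apply, if_pos rfl, mul_one]; exact if_congr Iff.rfl rfl rfl
    · intro k _ hk; simp [permFun_apply, Ne.symm hk]
    · simp

theorem permM_apply (σ : alternatingGroup (Fin n)) (i j : Fin n) :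
    ((permM σ : Matrix.SpecialLinearGroup (Fin n) F) : Matrix (Fin n) (Fin n) F) i j = if (σ : Perm (Fin n)) j = i then 1 else 0 :=
  permFun_apply σ i j

theorem permM_conj (σ : alternatingGroup (Fin n)) {i j : Fin n} (h : i ≠ j) (t : F) :
    permM σ * SpecialLinearGroup.transvection h t * (permM σ)⁻¹ =
      SpecialLinearGroup.transvection (fun e => h ((σ : Perm (Fin n)).injective e)) t := by
  rw [mul_inv_eq_iff_eq_mul]
  apply Subtype.ext
  ext k l
  rw [Matrix.SpecialLinearGroup.coe_mul, Matrix.SpecialLinearGroup.coe_mul, Matrix.mul_apply, Matrix.mul_apply,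
    Finset.sum_eq_single ((σ : Perm (Fin n)).symm k), Finset.sum_eq_single ((σ : Perm (Fin n)) l)]
  · simp only [permM_apply, Equiv.apply_symm_apply, if_true, one_mul, mul_one,
      SpecialLinearGroup.transvection_coe, Matrix.transvection, Matrix.add_apply, Matrix.one_apply,
      Matrix.single_apply]
    congr 1
    · exact if_congr (Equiv.symm_apply_eq _) rfl rfl
    · refine if_congr (and_congr ?_ ?_) rfl rfl
      · constructor
        · intro e; rw [e, Equiv.apply_symm_apply]
        · intro e; rw [← e, Equiv.symm_apply_apply]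
      · exact ((σ : Perm (Fin n)).injective.eq_iff).symm
  · intro m _ hm; simp [permM_apply, Ne.symm hm]
  · simp
  · intro m _ hm
    rw [permM_apply, if_neg (fun e => hm (by rw [← e, Equiv.symm_apply_apply])), zero_mul]
  · simp

/-- The first three points. -/
def pt3 (h : 3 ≤ n) : Fin 3 → Fin n := Fin.castLE h

/-- The splitting of the indices. -/
def split3 (h : 3 ≤ n) : Fin 3 ⊕ Fin (n - 3) ≃ Fin n := finSumFinEquiv.trans (finCongr (by omega))

theorem split3_inl (h : 3 ≤ n) (a : Fin 3) : split3 h (Sum.inl a) = pt3 h a := by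
  apply Fin.ext; simp [split3, pt3]

/-- The corner embedding of a matrix. -/
def emb3Fun (h : 3 ≤ n) (M : Matrix.SpecialLinearGroup (Fin 3) F) : Matrix.SpecialLinearGroup (Fin n) F :=
  ⟨Matrix.reindex (split3 h) (split3 h) (Matrix.fromBlocks M.1 0 0 1), by
    rw [Matrix.det_reindex_self, Matrix.det_fromBlocks_zero₁₂, Matrix.det_one, mul_one]; exact M.2⟩

theorem emb3Fun_apply (h : 3 ≤ n) (M : Matrix.SpecialLinearGroup (Fin 3) F) (x y : Fin 3 ⊕ Fin (n - 3)) :
    (emb3Fun h M : Matrix (Fin n) (Fin n) F) (split3 h x) (split3 h y) = Matrix.fromBlocks M.1 0 0 1 x y := by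
  show Matrix.reindex (split3 h) (split3 h) (Matrix.fromBlocks M.1 0 0 1) (split3 h x) (split3 h y) = _
  simp

/-- The same, as a homomorphism. -/
def emb3 (h : 3 ≤ n) : Matrix.SpecialLinearGroup (Fin 3) F →* Matrix.SpecialLinearGroup (Fin n) F where
  toFun := emb3Fun h
  map_one' := by
    apply Subtype.ext
    show Matrix.reindex (split3 h) (split3 h) (Matrix.fromBlocks (1 : Matrix (Fin 3) (Fin 3) F) 0 0 1) = 1
    simp
  map_mul' M N := by
    apply Subtype.ext
    show Matrix.reindex (split3 h) (split3 h) (Matrix.fromBlocks (M.1 * N.1) 0 0 1) =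
      Matrix.reindex (split3 h) (split3 h) (Matrix.fromBlocks M.1 0 0 1) *
        Matrix.reindex (split3 h) (split3 h) (Matrix.fromBlocks N.1 0 0 1)
    simp [Matrix.submatrix_mul_equiv, Matrix.fromBlocks_multiply]

theorem emb3_apply (h : 3 ≤ n) (M : Matrix.SpecialLinearGroup (Fin 3) F) (x y : Fin 3 ⊕ Fin (n - 3)) :
    (emb3 h M : Matrix (Fin n) (Fin n) F) (split3 h x) (split3 h y) = Matrix.fromBlocks M.1 0 0 1 x y :=
  emb3Fun_apply h M x y

theorem emb3_transvection (h : 3 ≤ n) {a b : Fin 3} (hab : a ≠ b) (t : F) :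
    emb3 h (SpecialLinearGroup.transvection hab t) =
      SpecialLinearGroup.transvection (show pt3 h a ≠ pt3 h b from fun e => hab (Fin.castLE_injective h e)) t := by
  apply Subtype.ext
  ext k l
  obtain ⟨x, rfl⟩ := (split3 h).surjective k
  obtain ⟨y, rfl⟩ := (split3 h).surjective l
  rw [emb3_apply]
  simp only [SpecialLinearGroup.transvection_coe, Matrix.transvection, Matrix.add_apply, Matrix.one_apply,
    Matrix.single_apply, ← split3_inl h, (split3 h).injective.eq_iff]
  rcases x with x | x <;> rcases y with y | y <;> simp [Matrix.one_apply, Matrix.single_apply]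

/-- The shared three cycle. -/
def w0 (h : 4 ≤ n) : alternatingGroup (Fin n) :=
  ⟨cyc3 (pt3 (by omega : 3 ≤ n) 0) (pt3 (by omega) 1) (pt3 (by omega) 2), Equiv.Perm.mem_alternatingGroup.mpr
    (sign_cyc3 (by simp [pt3, Fin.ext_iff]) (by simp [pt3, Fin.ext_iff]))⟩

theorem w0_pt3 (h : 4 ≤ n) (a : Fin 3) :
    (w0 h : Perm (Fin n)) (pt3 (by omega) a) = pt3 (by omega) (a + 1) := by
  have hne : ∀ a b : Fin 3, a ≠ b → pt3 (by omega : 3 ≤ n) a ≠ pt3 (by omega) b := fun a b hab e =>
    hab (Fin.castLE_injective _ e)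
  fin_cases a
  · exact cyc3_left (hne 0 1 (by decide)) (hne 0 2 (by decide))
  · exact cyc3_mid (hne 0 2 (by decide)) (hne 1 2 (by decide))
  · exact cyc3_right

theorem w0_fix (h : 4 ≤ n) (x : Fin (n - 3)) :
    (w0 h : Perm (Fin n)) (split3 (by omega) (Sum.inr x)) = split3 (by omega) (Sum.inr x) := by
  refine cyc3_of_ne ?_ ?_ ?_ <;> (rw [← split3_inl]; exact fun e => by simpa using (split3 _).injective e)

theorem emb3_mW (h : 4 ≤ n) : emb3 (by omega) (mW : Matrix.SpecialLinearGroup (Fin 3) F) = permM (w0 h) := by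
  apply Subtype.ext
  ext k l
  obtain ⟨x, rfl⟩ := (split3 (by omega : 3 ≤ n)).surjective k
  obtain ⟨y, rfl⟩ := (split3 (by omega : 3 ≤ n)).surjective l
  rw [emb3_apply, permM_apply]
  rcases y with y | y
  · rw [split3_inl, w0_pt3, ← split3_inl (show 3 ≤ n by omega)]
    rcases x with x | x
    · simp only [Matrix.fromBlocks_apply₁₁, (split3 _).injective.eq_iff, Sum.inl.injEq, mW_coe]
      fin_cases x <;> fin_cases y <;> simp
    · simp
  · rw [w0_fix]
    rcases x with x | x <;> simp [Matrix.one_apply, eq_comm]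

end Cfsg.Agent.KSG55.SLn
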